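import Cfsg.Agent.H87.HNOut.Cent

/-!
The certificates for the centralisers on the hundred points.
-/

set_option autoImplicit false
set_option maxRecDepth 100000
set_option Elab.async false

namespace Cfsg.Agent.H87.HNOut

open Cfsg.Agent.H94.HS
open Cfsg.Agent.H87.HNOut.C100

/-- The table of `x`. -/
def tX : ℕ := 0x7276da942f4e49c2ceaae82fec9834026a4620688674e2e1532dc9870496ba3ac12f1b232f1ca8cc0609b44a7b6576110a5e3b0171e3615080b6f9e288315d794e3d4502241f8ac9d854ea933506b1a16893083e170e752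

/-- The table of `y`. -/
def tY : ℕ := 0xa84f0cd1f4a0476770129446074b5182e841886124c75ed86874da0976701c50ae2b193602c173cbde309294ed14605b950ee664a7ac932a6d193882cb58deb445f4e6ab158b9036c9088fc95f14527a03f417623506aba

/-- The table of `z`. -/
def tZ : ℕ := 0x72c70a948f66b3b726cae82fea983548e213b3aebb74c2d328f1a2a64e96ba8acfaf3c992f1b66ee1ab4b92314a57616ac5eab040871215f2e8a81e3e827d1374ccd446209142654305043838c06284961a44804163c080

theorem chk_base : baseB tX tY tZ = true := by decide +kernel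

theorem chk_U : trivB [tY, uT tX tY] ((0 : Fin 100) : ℕ) ((1 : Fin 100) : ℕ) [[0, 0], [0, 1, 1, 1, 0], [1, 1, 0, 1, 1]] [[1, 1, 0, 0, 0], [1, 0, 1, 0, 0]] [(0, 0), (0, 1), (58, 1), (41, 0), (41, 1), (57, 0), (57, 1), (76, 0), (81, 0), (81, 1), (88, 1), (36, 0), (36, 1), (93, 0), (93, 1), (37, 0), (78, 0), (78, 1), (42, 1), (62, 0), (62, 1), (64, 0), (64, 1), (38, 0), (33, 0), (89, 0), (86, 1), (56, 0), (56, 1), (29, 0), (69, 0), (69, 1), (48, 1), (39, 1), (2, 1), (23, 0), (65, 0), (65, 1), (7, 0), (17, 1), (3, 0), (3, 1), (45, 0), (31, 0), (60, 0), (60, 1), (55, 0), (51, 0), (73, 0), (1, 0), (1, 1), (85, 0), (85, 1), (95, 0), (14, 0), (14, 1), (67, 0), (67, 1), (15, 0), (15, 1), (63, 0), (63, 1), (99, 1), (59, 0), (87, 0), (87, 1), (68, 0), (68, 1), (94, 0), (84, 0), (46, 1), (27, 0), (27, 1), (34, 0), (11, 0), (11, 1), (9, 0), (9, 1), (20, 1), (96, 0), (96, 1), (90, 0), (71, 1), (70, 1), (10, 1), (83, 0), (79, 0), (79, 1), (54, 0), (77, 0),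 (77, 1), (6, 0), (92, 1), (4, 1), (98, 0), (47, 0), (66, 1), (13, 0)] = true := by decide +kernel

theorem chk_shape : shapeB (mul100 (wT tX tY tZ) (wT tX tY tZ)) ((75 : Fin 100) : ℕ) ((3 : Fin 100) : ℕ) ((5 : Fin 100) : ℕ) = true := by decide +kernel

theorem chk_uniq : uniqB ((75 : Fin 100) : ℕ) = true := by decide +kernel

theorem chk_cand : candB (mul100 (wT tX tY tZ) (wT tX tY tZ)) ((75 : Fin 100) : ℕ) ((3 : Fin 100) : ℕ) ((5 : Fin 100) : ℕ) = true := by decide +kernel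

theorem chk_pow : Nat.beq (pow100 11 (wT tX tY tZ)) one100 = true := by decide +kernel

theorem chk_ne : Nat.beq (mul100 (wT tX tY tZ) (wT tX tY tZ)) one100 = false := by decide +kernel

end Cfsg.Agent.H87.HNOut
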