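import Cfsg.Agent.H87.HNOut.Derive
import Cfsg.Agent.H87.HNOut.CentChk

/-!
`Out HN = 2` from the order, the coset data and the model of `⟨x, y, z⟩` on the hundred points.
-/

set_option autoImplicit false
set_option maxRecDepth 100000

namespace Cfsg.Agent.H87.HNOut

open Cfsg Cfsg.Spor

/-- The assembled statement. -/
theorem card_out_of_model {F : Type} [Group F] {nu : F →* Spor.HN}
    {chi : F →* Equiv.Perm (Fin 100)} {ax ay az : F}
    (M : Model100 nu chi ax ay az tX tY tZ) {K : Subgroup Spor.HN}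
    (hfin : Finite Spor.HN) (hcard : Nat.card Spor.HN = 273030912000000)
    (hrho : Function.Injective Cfsg.Agent.H16.HN.rho)
    (hdec : ∀ g : Spor.HN, ∃ h ∈ HH, ∃ j < 14, ∃ (i : ℕ), ∃ w ∈
      Subgroup.closure ({gX, gY} : Set Spor.HN), g = h * rep j * gT ^ i * w)
    (hxK : gX ∈ K) (hyK : gY ∈ K) (hzK : gZ ∉ K) (hKle : K ≤ HH)
    (hznorm : ∀ k ∈ K, gZ * k * gZ⁻¹ ∈ K) (hcover : IsNonsplitDoubleCover K ↥Spor.HS) :
    Nat.card (Cfsg.Out Spor.HN) = 2 := by
  have hs := M.s_order chk_base chk_pow chk_ne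
  refine card_out_HN (K := K) (s := sHN)
    ⟨hfin, hcard, hrho, hdec, hxK, hyK, hzK, hKle, hznorm, hcover, M.ccent chk_base,
      M.csq chk_base, ?_, hs.1, hs.2, M.cent_H_s chk_base chk_shape chk_uniq chk_cand,
      M.cent_H_U chk_base chk_U hxK hyK⟩
  -- `z` occurs an even number of times in the word of `s`
  have e : wS gX gY gZ = gX * gY * gY * gY * (gZ * gY * gZ⁻¹) * (gZ * gZ) * (gZ * gZ)⁻¹ := by
    rw [mul_inv_cancel_right, wS, inv_eq_of_mul_eq_one_right zsq]
    group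
  have hw : wS gX gY gZ ∈ K := by
    rw [e, zsq, inv_one, mul_one, mul_one]
    exact mul_mem (mul_mem (mul_mem (mul_mem hxK hyK) hyK) hyK) (hznorm _ hyK)
  exact mul_mem hw hw

end Cfsg.Agent.H87.HNOut
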