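import Cfsg.Agent.H67.HN.Perm
import Cfsg.Agent.H87.HNOut.Assemble

/-!
helper67's model of `⟨x, y, z⟩` as a `Model100`.
-/

set_option autoImplicit false
set_option maxRecDepth 100000

namespace Cfsg.Agent.H87.HNOut

open Cfsg Cfsg.Spor
open Cfsg.Agent.H67.HN (F gx gy gz nu rep100 rep100_range rep100_x2 X100 Y100 Z100 lift_gx lift_gy
  lift_gz nu_range hn)
open Cfsg.Agent.H45 (tget linv sig)
open Cfsg.Agent.H94.HS (app100 ok100 perm100 perm100_val autG card_autG)

/-- A packed table agrees with a column. -/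
def sameB (T l : ℕ) : Bool :=
  (List.range 100).all fun i =>
    app100 T i == tget H67.HN.P100.cols i (linv H67.HN.P100.iv l)

theorem same_tX : (ok100 tX && sameB tX 0) = true := by decide +kernel

theorem same_tY : (ok100 tY && sameB tY 2) = true := by decide +kernel

theorem same_tZ : (ok100 tZ && sameB tZ 4) = true := by decide +kernel

theorem sig_eq {T l : ℕ} (hl : l < 5) (h : (ok100 T && sameB T l) = true) :
    sig H67.HN.P100.tab l = perm100 T := by
  simp only [sameB, Bool.and_eq_true, List.all_eq_true, List.mem_range, beq_iff_eq] at h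
  refine Equiv.ext fun i => Fin.ext ?_
  rw [perm100_val h.1, h.2 i i.isLt]
  simp [sig, hl]

theorem rep100_gx : rep100 gx = perm100 tX := by
  rw [rep100, lift_gx, X100]; exact sig_eq (by norm_num) same_tX

theorem rep100_gy : rep100 gy = perm100 tY := by
  rw [rep100, lift_gy, Y100]; exact sig_eq (by norm_num) same_tY

theorem rep100_gz : rep100 gz = perm100 tZ := by
  rw [rep100, lift_gz, Z100]; exact sig_eq (by norm_num) same_tZ

theorem nu_gx : nu gx = gX := by rw [nu, lift_gx]; rfl
theorem nu_gy : nu gy = gY := by rw [nu, lift_gy]; rfl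
theorem nu_gz : nu gz = gZ := by rw [nu, lift_gz]; rfl

theorem nu_range_HH : nu.range = HH := by
  rw [nu_range]; rfl

/-- The kernel on the hundred points. -/
theorem rep100_ker (hF : Nat.card F = 177408000) (f : F) (hf : rep100 f = 1) :
    f = 1 ∨ f = gx ^ 2 := by
  have h := rep100.ker.card_mul_index
  rw [Subgroup.index_ker, rep100_range, card_autG, hF] at h
  have h2 : Nat.card rep100.ker = 2 :=
    Nat.eq_of_mul_eq_mul_right (show 0 < 88704000 by norm_num) (h.trans (by norm_num))
  have hne : gx ^ 2 ≠ 1 := fun e => misc.2.2.2.1 (by rw [← nu_gx, ← map_pow, e, map_one])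
  by_contra hne'
  push Not at hne'
  obtain ⟨u, -, huniq⟩ := (Nat.card_eq_two_iff' (1 : rep100.ker)).1 h2
  have e1 := huniq ⟨f, hf⟩ (fun e => hne'.1 (congrArg Subtype.val e))
  have e2 := huniq ⟨gx ^ 2, rep100_x2⟩ (fun e => hne (congrArg Subtype.val e))
  exact hne'.2 (congrArg Subtype.val (e1.trans e2.symm))

/-- The model. -/
theorem model (hF : Nat.card F = 177408000) (hinj : Function.Injective nu) :
    Model100 nu rep100 gx gy gz tX tY tZ where
  inj := hinj
  range_eq := nu_range_HH
  nx := nu_gx
  ny := nu_gy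
  nz := nu_gz
  cx := rep100_gx
  cy := rep100_gy
  cz := rep100_gz
  aut f := rep100_range ▸ (⟨f, rfl⟩ : rep100 f ∈ rep100.range)
  ker := rep100_ker hF
  cne := misc.2.2.2.1

end Cfsg.Agent.H87.HNOut
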