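import Cfsg.Agent.H87.HNOut.Words

/-!
Kernel checks: the representatives move every conjugate of c.
-/

set_option autoImplicit false
set_option maxRecDepth 100000
set_option Elab.async false

namespace Cfsg.Agent.H87.HNOut

open Cfsg.Agent.H16.HN

theorem chkA1 : okA 1 = true := by decide +kernel

theorem chkA2 : okA 2 = true := by decide +kernel

theorem chkA3 : okA 3 = true := by decide +kernel

theorem chkA4 : okA 4 = true := by decide +kernel

theorem chkA5 : okA 5 = true := by decide +kernel

theorem chkA6 : okA 6 = true := by decide +kernel

theorem chkA7 : okA 7 = true := by decide +kernel

theorem chkA8 : okA 8 = true := by decide +kernel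

theorem chkA9 : okA 9 = true := by decide +kernel

theorem chkA10 : okA 10 = true := by decide +kernel

theorem chkA11 : okA 11 = true := by decide +kernel

theorem chkA12 : okA 12 = true := by decide +kernel

theorem chkA13 : okA 13 = true := by decide +kernel

end Cfsg.Agent.H87.HNOut
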