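import Cfsg.Agent.H87.HNOut.Words

/-!
Kernel checks: the representatives do not carry y into H.
-/

set_option autoImplicit false
set_option maxRecDepth 100000
set_option Elab.async false

namespace Cfsg.Agent.H87.HNOut

open Cfsg.Agent.H16.HN

theorem chkB1 : okB 1 = true := by decide +kernel

theorem chkB2 : okB 2 = true := by decide +kernel

theorem chkB3 : okB 3 = true := by decide +kernel

theorem chkB4 : okB 4 = true := by decide +kernel

theorem chkB5 : okB 5 = true := by decide +kernel

theorem chkB6 : okB 6 = true := by decide +kernel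

theorem chkB7 : okB 7 = true := by decide +kernel

theorem chkB8 : okB 8 = true := by decide +kernel

theorem chkB9 : okB 9 = true := by decide +kernel

theorem chkB10 : okB 10 = true := by decide +kernel

theorem chkB11 : okB 11 = true := by decide +kernel

theorem chkB12 : okB 12 = true := by decide +kernel

theorem chkB13 : okB 13 = true := by decide +kernel

/-- The sporadic word facts. -/
noncomputable def okMisc : Bool :=
  !(Nat.beq (evM [4, 6, 6, 4, 6, 6, 4, 6, 6]) one133) &&
    !(Nat.beq (evM [4, 0, 0, 6, 4, 0, 0, 6, 4, 0, 0, 6]) one133) &&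
    !(Nat.beq (evM [6]) one133) && !(Nat.beq (evM [0, 0]) one133) &&
    Nat.beq (evM [4, 0, 0, 6, 6, 4, 0, 0, 6, 6, 4, 0, 0, 6, 6]) one133

theorem chkMisc : okMisc = true := by decide +kernel

end Cfsg.Agent.H87.HNOut
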