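import Cfsg.Prelude.Def_Spor_HN

/-!
Elementary facts read off the relators of the presented group `HN`.
-/

set_option autoImplicit false

namespace Cfsg.Agent.H87.HNOut

open Cfsg Cfsg.Spor

/-- The generator `x`. -/
abbrev gX : Spor.HN := PresentedGroup.of HN.Gen.x
/-- The generator `y`. -/
abbrev gY : Spor.HN := PresentedGroup.of HN.Gen.y
/-- The generator `z`. -/
abbrev gZ : Spor.HN := PresentedGroup.of HN.Gen.z
/-- The generator `t`. -/
abbrev gT : Spor.HN := PresentedGroup.of HN.Gen.t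

/-- The projection of the free group. -/
noncomputable abbrev mkHN : FreeGroup HN.Gen →* Spor.HN :=
  PresentedGroup.mk (coxRelators HN.edges ∪ {r | r ∈ HN.extra})

/-- The subgroup generated by `x, y, z`. -/
abbrev HH : Subgroup Spor.HN := Subgroup.closure ({gX, gY, gZ} : Set Spor.HN)

theorem gen_top : Subgroup.closure ({gX, gY, gZ, gT} : Set Spor.HN) = ⊤ := by
  rw [eq_top_iff, ← PresentedGroup.closure_range_of (coxRelators HN.edges ∪ {r | r ∈ HN.extra}),
    Subgroup.closure_le]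
  rintro _ ⟨a, rfl⟩
  apply Subgroup.subset_closure
  cases a <;> simp

/-- The subgroup of `S1708`. -/
theorem map_closure_eq :
    (Subgroup.closure ({HN.x, HN.y, HN.z} : Set (FreeGroup HN.Gen))).map mkHN = HH := by
  rw [MonoidHom.map_closure, Set.image_insert_eq, Set.image_insert_eq, Set.image_singleton]
  rfl

theorem rel_one {r : FreeGroup HN.Gen} (h : r ∈ HN.extra) : mkHN r = 1 :=
  PresentedGroup.one_of_mem (Set.mem_union_right _ h)

theorem ysix : gY ^ 6 = 1 := by
  have h : mkHN (HN.y ^ 6) = 1 := rel_one (by simp [HN.extra])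
  rwa [map_pow] at h

theorem zsq : gZ * gZ = 1 := by
  have h : mkHN (HN.z ^ 2) = 1 := rel_one (by simp [HN.extra])
  rw [map_pow] at h
  rwa [← sq]

theorem tfive : gT ^ 5 = 1 := by
  have h : mkHN (HN.t ^ 5) = 1 := rel_one (by simp [HN.extra])
  rwa [map_pow] at h

theorem txc : gX⁻¹ * gT * gX = gT ^ 3 := by
  have h : mkHN ((HN.x⁻¹ * HN.t * HN.x) * HN.t ^ 2) = 1 := rel_one (by simp [HN.extra])
  simp only [map_mul, map_inv, map_pow] at h
  change gX⁻¹ * gT * gX * gT ^ 2 = 1 at h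
  rw [eq_inv_of_mul_eq_one_left h]
  symm
  rw [eq_inv_iff_mul_eq_one]
  exact (pow_add gT 3 2).symm.trans tfive

theorem tyc : gY * gT = gT * gY := by
  have h : mkHN (HN.t⁻¹ * HN.y⁻¹ * HN.t * HN.y) = 1 := rel_one (by simp [HN.extra])
  simp only [map_mul, map_inv] at h
  change gT⁻¹ * gY⁻¹ * gT * gY = 1 at h
  calc gY * gT = gY * gT * (gT⁻¹ * gY⁻¹ * gT * gY) := by rw [h, mul_one]
    _ = gT * gY := by group

theorem zt_cube : (gZ * gT) ^ 3 = 1 := by
  have h : mkHN ((HN.z * HN.t) ^ 3) = 1 := rel_one (by simp [HN.extra])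
  rwa [map_pow, map_mul] at h

theorem xxyxxY : gX ^ 2 * gY * gX ^ 2 * gY⁻¹ = 1 := by
  have h : mkHN (HN.x ^ 2 * HN.y * HN.x ^ 2 * HN.y⁻¹) = 1 := rel_one (by simp [HN.extra])
  rwa [map_mul, map_mul, map_mul, map_pow, map_inv] at h

theorem zx_sq : (gZ * gX) ^ 2 = 1 := by
  have h : mkHN ((HN.z * HN.x) ^ 2) = 1 := rel_one (by simp [HN.extra])
  rwa [map_pow, map_mul] at h

/-- `x` acts on `⟨t⟩` and `y` centralises it. -/
theorem conj_t (w : Spor.HN) (hw : w ∈ Subgroup.closure ({gX, gY} : Set Spor.HN)) :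
    ∃ k : ℕ, w * gT * w⁻¹ = gT ^ k := by
  induction hw using Subgroup.closure_induction'' with
  | one => exact ⟨1, by simp⟩
  | mem v hv =>
      rcases hv with rfl | rfl
      · refine ⟨2, ?_⟩
        have h : gX * (gX⁻¹ * gT * gX) ^ 2 * gX⁻¹ = gT ^ 2 := by
          rw [sq, sq]; group
        rw [txc, ← pow_mul, pow_eq_pow_mod (3 * 2) tfive] at h
        simpa using h
      · exact ⟨1, by rw [tyc, pow_one, mul_inv_cancel_right]⟩
  | inv_mem v hv =>
      rcases hv with rfl | rfl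
      · exact ⟨3, by rw [inv_inv]; exact txc⟩
      · refine ⟨1, ?_⟩
        rw [inv_inv, pow_one, mul_assoc, ← tyc, inv_mul_cancel_left]
  | mul a b _ _ ha hb =>
      obtain ⟨k, hk⟩ := ha
      obtain ⟨l, hl⟩ := hb
      refine ⟨k * l, ?_⟩
      calc a * b * gT * (a * b)⁻¹ = a * (b * gT * b⁻¹) * a⁻¹ := by group
        _ = (MulAut.conj a) (gT ^ l) := by rw [hl]; rfl
        _ = gT ^ (k * l) := by rw [map_pow, MulAut.conj_apply, hk, pow_mul]

end Cfsg.Agent.H87.HNOut
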