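import Cfsg.Agent.H16.HN.Rep
import Cfsg.Agent.H87.HNOut.Rels
import Cfsg.Agent.H87.HNOut.ChkA
import Cfsg.Agent.H87.HNOut.ChkB

/-!
What the kernel checks say about `HN`.
-/

set_option autoImplicit false
set_option maxRecDepth 100000

namespace Cfsg.Agent.H87.HNOut

open Cfsg Cfsg.Spor
open Cfsg.Agent.H16.HN
open Cfsg.Agent.H45 (evalW evalW_cons evalW_append evalW_nil)

theorem wordHN_nil : wordHN [] = 1 := map_one _

theorem wordHN_append (u v : List ℕ) : wordHN (u ++ v) = wordHN u * wordHN v := by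
  rw [wordHN, evalW_append, map_mul]; rfl

theorem wordHN_cons (l : ℕ) (w : List ℕ) : wordHN (l :: w) = wordHN [l] * wordHN w :=
  wordHN_append [l] w

theorem wordHN_x : wordHN [0] = gX := by simp [wordHN, evalW, fL, genHN]

theorem wordHN_y : wordHN [2] = gY := by simp [wordHN, evalW, fL, genHN]

theorem wordHN_z : wordHN [4] = gZ := by simp [wordHN, evalW, fL, genHN]

theorem wordHN_t : wordHN [6] = gT := by simp [wordHN, evalW, fL, genHN]

theorem wordHN_c : wordHN [0, 0] = gX ^ 2 := by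
  rw [show ([0, 0] : List ℕ) = [0] ++ [0] from rfl, wordHN_append, wordHN_x, sq]

theorem wordHN_rep_t : ∀ k, wordHN (List.replicate k 6) = gT ^ k
  | 0 => by simpa using wordHN_nil
  | k + 1 => by
      rw [List.replicate_succ, wordHN_cons, wordHN_t, wordHN_rep_t k, pow_succ']

theorem fL_invL (l : ℕ) : fL (invL l) = (fL l)⁻¹ := by
  rcases Nat.lt_or_ge l 8 with h | h
  · interval_cases l <;> decide +kernel
  · have h' : ¬ invL l < 8 := by unfold invL; split <;> omega
    rw [fL, fL, dif_neg h', dif_neg (by omega), inv_one]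

theorem wordHN_invW : ∀ w, wordHN (invW w) = (wordHN w)⁻¹
  | [] => by simp [invW, wordHN_nil]
  | l :: w => by
      have : invW (l :: w) = invW w ++ [invL l] := by simp [invW]
      rw [this, wordHN_append, wordHN_invW w, wordHN_cons l w, mul_inv_rev]
      congr 1
      simp [wordHN, evalW, fL_invL]

theorem rho_eq_iff {u v : List ℕ} :
    Nat.beq (evM u) (evM v) = true ↔ rho (wordHN u) = rho (wordHN v) := by
  rw [← rho_word, ← rho_word, ← S.eqv_iff (evM_ok u).1 (evM_ok v).1]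
  exact Iff.rfl

theorem rho_ne {u v : List ℕ} (h : Nat.beq (evM u) (evM v) = false) :
    wordHN u ≠ wordHN v := fun e => by
  rw [rho_eq_iff.2 (congrArg rho e)] at h
  exact Bool.noConfusion h

theorem wordHN_eq (w : List ℕ) :
    wordHN w = (w.map fun l => wordHN [l]).prod := by
  induction w with
  | nil => simpa using wordHN_nil
  | cons l w ih => rw [wordHN_cons, ih, List.map_cons, List.prod_cons]

theorem misc :
    (gZ * gT ^ 2) ^ 3 ≠ 1 ∧ (gZ * gX ^ 2 * gT) ^ 3 ≠ 1 ∧ gT ≠ 1 ∧ gX ^ 2 ≠ 1 ∧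
      rho ((gZ * gX ^ 2 * gT ^ 2) ^ 3) = 1 := by
  have h := chkMisc
  simp only [okMisc, Bool.and_eq_true, Bool.not_eq_true', show one133 = evM [] from rfl] at h
  obtain ⟨⟨⟨⟨h1, h2⟩, h3⟩, h4⟩, h5⟩ := h
  refine ⟨?_, ?_, ?_, ?_, ?_⟩
  · intro e
    refine rho_ne h1 ?_
    rw [wordHN_nil, ← e]
    rw [wordHN_eq [4, 6, 6, 4, 6, 6, 4, 6, 6]]
    simp [wordHN_z, wordHN_t, pow_succ, mul_assoc]
  · intro e
    refine rho_ne h2 ?_
    rw [wordHN_nil, ← e]
    rw [wordHN_eq [4, 0, 0, 6, 4, 0, 0, 6, 4, 0, 0, 6]]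
    simp [wordHN_z, wordHN_t, wordHN_x, pow_succ, mul_assoc]
  · exact fun e => rho_ne h3 (by rw [wordHN_t, wordHN_nil, e])
  · exact fun e => rho_ne h4 (by rw [wordHN_c, wordHN_nil, e])
  · have h6 := rho_eq_iff.1 h5
    rw [wordHN_nil, map_one] at h6
    rw [← h6]
    refine congrArg rho ?_
    rw [wordHN_eq [4, 0, 0, 6, 6, 4, 0, 0, 6, 6, 4, 0, 0, 6, 6]]
    simp [wordHN_z, wordHN_t, wordHN_x, pow_succ, mul_assoc]

theorem all_okA {j : ℕ} (h0 : 1 ≤ j) (h1 : j < 14) : okA j = true := by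
  interval_cases j
  exacts [chkA1, chkA2, chkA3, chkA4, chkA5, chkA6, chkA7, chkA8, chkA9, chkA10, chkA11, chkA12,
    chkA13]

theorem all_okB {j : ℕ} (h0 : 1 ≤ j) (h1 : j < 14) : okB j = true := by
  interval_cases j
  exacts [chkB1, chkB2, chkB3, chkB4, chkB5, chkB6, chkB7, chkB8, chkB9, chkB10, chkB11, chkB12,
    chkB13]

/-- The representative of a node in `HN`. -/
noncomputable def rep (j : ℕ) : Spor.HN := wordHN (repW j)

theorem rep_zero : rep 0 = 1 := wordHN_nil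

theorem repA {j : ℕ} (h0 : 1 ≤ j) (h1 : j < 14) (k : ℕ) :
    (rep j)⁻¹ * gX ^ 2 * rep j * gX ^ 2 ≠ gT ^ k := by
  intro e
  rw [pow_eq_pow_mod k tfive] at e
  have h := all_okA h0 h1
  simp only [okA, Bool.not_eq_true', List.any_eq_false, List.mem_range] at h
  apply h (k % 5) (Nat.mod_lt _ (by norm_num))
  rw [rho_eq_iff]
  congr 1
  rw [wordA, wordHN_append, wordHN_append, wordHN_append, wordHN_invW, wordHN_c, wordHN_rep_t]
  exact e

theorem repB {j : ℕ} (h0 : 1 ≤ j) (h1 : j < 14) :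
    rep j * gY * (rep j)⁻¹ * gX ^ 2 ≠ gX ^ 2 * (rep j * gY * (rep j)⁻¹) := by
  intro e
  have h := all_okB h0 h1
  simp only [okB, Bool.not_eq_true'] at h
  apply rho_ne h
  rw [wordB, wordB', wordHN_append, wordHN_append, wordHN_append, wordHN_append, wordHN_append,
    wordHN_append, wordHN_invW, wordHN_c, wordHN_y]
  simpa [rep, mul_assoc] using e

end Cfsg.Agent.H87.HNOut
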