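import Cfsg.Agent.Golay.OutHS
import Cfsg.Prelude.Def_KGroupFacts

/-!
Facts on `Spor.HS` used for the automorphism group of `HN`.
-/

set_option autoImplicit false

namespace Cfsg.Agent.H87.HNOut

open Cfsg Cfsg.Agent.Golay

theorem card_HS : Nat.card ↥Spor.HS = 44352000 := by
  rw [← map_hsStab]
  exact (Nat.card_congr (hsStab.equivMapOfInjective _ Co0.subtype_injective).toEquiv).symm.trans
    card_hsStab.1

theorem simple_HS : IsSimpleGroup ↥Spor.HS := by
  have : IsSimpleGroup hsStab := isSimple_hsStab
  exact (((hsStab.equivMapOfInjective _ Co0.subtype_injective).trans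
    (MulEquiv.subgroupCongr map_hsStab)).symm).isSimpleGroup

theorem center_HS : Subgroup.center ↥Spor.HS = ⊥ := by
  have := simple_HS
  rcases (inferInstance : (Subgroup.center ↥Spor.HS).Normal).eq_bot_or_eq_top with h | h
  · exact h
  exfalso
  have : IsMulCommutative ↥Spor.HS :=
    ⟨⟨fun a b => ((Subgroup.mem_center_iff.1 (h ▸ Subgroup.mem_top a)) b).symm⟩⟩
  letI : CommGroup ↥Spor.HS :=
    { (inferInstance : Group ↥Spor.HS) with mul_comm := fun a b => mul_comm' a b }
  have hp := IsSimpleGroup.prime_card (α := ↥Spor.HS)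
  rw [card_HS] at hp
  norm_num at hp

theorem commutator_HS : commutator ↥Spor.HS = ⊤ := by
  have := simple_HS
  rcases (inferInstance : (commutator ↥Spor.HS).Normal).eq_bot_or_eq_top with h | h
  · exfalso
    rw [commutator_eq_bot_iff_center_eq_top, center_HS] at h
    exact bot_ne_top h
  · exact h

theorem card_mulAut_HS : Nat.card (MulAut ↥Spor.HS) = 88704000 := by
  have hi : Function.Injective (MulAut.conj : ↥Spor.HS →* MulAut ↥Spor.HS) := by
    rw [← MonoidHom.ker_eq_bot_iff, eq_bot_iff, ← center_HS]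
    intro g hg
    refine Subgroup.mem_center_iff.2 fun h => ?_
    have := DFunLike.congr_fun (MonoidHom.mem_ker.1 hg) h
    rw [MulAut.conj_apply, MulAut.one_apply, mul_inv_eq_iff_eq_mul] at this
    exact this.symm
  have h1 : Nat.card (Inn ↥Spor.HS) = 44352000 := by
    rw [← card_HS]; exact (Nat.card_congr (MonoidHom.ofInjective hi).toEquiv).symm
  have h2 : (Inn ↥Spor.HS).index = 2 := card_out_HS
  rw [← (Inn ↥Spor.HS).card_mul_index, h1, h2]

end Cfsg.Agent.H87.HNOut
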