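import Cfsg.Agent.H87.HNOut.Model

/-!
The index-two subgroup `2.HS` of `⟨x, y, z⟩`: the even permutations of the hundred points.
-/

set_option autoImplicit false
set_option maxRecDepth 100000

namespace Cfsg.Agent.H87.HNOut

open Cfsg Cfsg.Spor
open Cfsg.Agent.H67.HN (F gx gy gz nu rep100 rep100_range rep100_x2)
open Cfsg.Agent.H94.HS (hsE autG isoHS_hsE ok100 perm100 oddB sign_perm100 even_of_oddB)

attribute [local irreducible] H67.HN.rep100 H67.HN.nu

theorem tX_even : (ok100 tX && !oddB tX) = true := by decide +kernel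
theorem tY_even : (ok100 tY && !oddB tY) = true := by decide +kernel
theorem tZ_odd : (ok100 tZ && oddB tZ) = true := by decide +kernel

/-- The preimage of `HS` in the model. -/
noncomputable def KF : Subgroup F := hsE.comap rep100

/-- The subgroup `2.HS` of presented `HN`. -/
noncomputable def KK : Subgroup Spor.HN := KF.map nu

theorem mem_KF {f : F} : f ∈ KF ↔ Equiv.Perm.sign (rep100 f) = 1 :=
  ⟨fun h => h.2, fun h => ⟨rep100_range ▸ (⟨f, rfl⟩ : rep100 f ∈ rep100.range), h⟩⟩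

theorem gx_KF : gx ∈ KF := by
  have h := tX_even
  simp only [Bool.and_eq_true, Bool.not_eq_true'] at h
  rw [mem_KF, rep100_gx]; exact even_of_oddB h.1 h.2

theorem gy_KF : gy ∈ KF := by
  have h := tY_even
  simp only [Bool.and_eq_true, Bool.not_eq_true'] at h
  rw [mem_KF, rep100_gy]; exact even_of_oddB h.1 h.2

theorem gz_KF : gz ∉ KF := by
  have h := tZ_odd
  simp only [Bool.and_eq_true] at h
  rw [mem_KF, rep100_gz, sign_perm100 h.1, h.2]
  decide

theorem KK_facts (hinj : Function.Injective nu) :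
    gX ∈ KK ∧ gY ∈ KK ∧ gZ ∉ KK ∧ KK ≤ HH ∧ ∀ k ∈ KK, gZ * k * gZ⁻¹ ∈ KK := by
  refine ⟨⟨gx, gx_KF, nu_gx⟩, ⟨gy, gy_KF, nu_gy⟩, ?_, ?_, ?_⟩
  · rintro ⟨f, hf, e⟩
    rw [← nu_gz] at e
    exact gz_KF (hinj e ▸ hf)
  · rw [← nu_range_HH]
    rintro _ ⟨f, -, rfl⟩
    exact ⟨f, rfl⟩
  · rintro _ ⟨f, hf, rfl⟩
    refine ⟨gz * f * gz⁻¹, ?_, by rw [map_mul, map_mul, map_inv, nu_gz]⟩
    have := mem_KF.1 hf
    show _ ∈ KF
    rw [mem_KF, map_mul, map_mul, map_inv, map_mul, map_mul, map_inv, this, mul_one, mul_inv_cancel]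

/-- The even part of the model is a nonsplit double cover of `HS`. -/
theorem KF_cover (hF : Nat.card F = 177408000) : IsNonsplitDoubleCover KF ↥Spor.HS := by
  classical
  obtain ⟨e⟩ := isoHS_hsE
  let p : KF →* ↥Spor.HS :=
    e.toMonoidHom.comp ((rep100.comp KF.subtype).codRestrict hsE fun f => f.2)
  have hp : ∀ f : KF, p f = 1 ↔ rep100 f = 1 := fun f =>
    ⟨fun h => congrArg Subtype.val (e.map_eq_one_iff.1 h), fun h => e.map_eq_one_iff.2 (Subtype.ext h)⟩
  have hsurj : Function.Surjective p := by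
    refine e.surjective.comp fun w => ?_
    obtain ⟨f, hf⟩ := (rep100_range.symm ▸ w.2.1 : (w : Equiv.Perm (Fin 100)) ∈ rep100.range)
    exact ⟨⟨f, show rep100 f ∈ hsE by rw [hf]; exact w.2⟩, Subtype.ext hf⟩
  have hx2 : gx ^ 2 ∈ KF := pow_mem gx_KF 2
  have hker : p.ker = Subgroup.center KF := by
    apply le_antisymm
    · intro f hf
      rw [Subgroup.mem_center_iff]
      intro g
      apply Subtype.ext
      rcases rep100_ker hF f ((hp f).1 hf) with h | h
      · simp [h]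
      · show (g : F) * f = f * g
        rw [h]
        exact Subgroup.mem_center_iff.1 H67.HN.x2_central g
    · intro f hf
      rw [MonoidHom.mem_ker, ← Subgroup.mem_bot, ← center_HS, Subgroup.mem_center_iff]
      intro w
      obtain ⟨g, rfl⟩ := hsurj w
      rw [← map_mul, ← map_mul, Subgroup.mem_center_iff.1 hf g]
  have hne : gx ^ 2 ≠ 1 := fun h => misc.2.2.2.1 (by rw [← nu_gx, ← map_pow, h, map_one])
  have hmem : (⟨gx ^ 2, hx2⟩ : KF) ∈ Subgroup.center KF := by
    rw [← hker, MonoidHom.mem_ker, hp]; exact rep100_x2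
  have hcard : Nat.card (Subgroup.center KF) = 2 := by
    rw [Nat.card_eq_two_iff]
    refine ⟨1, ⟨_, hmem⟩, fun h => hne (congrArg (fun w : Subgroup.center KF => ((w : KF) : F)) h).symm,
      Set.eq_univ_of_forall fun w => ?_⟩
    have hw : rep100 ((w : KF) : F) = 1 := (hp _).1 (MonoidHom.mem_ker.1 (by rw [hker]; exact w.2))
    rcases rep100_ker hF _ hw with h | h
    · exact Or.inl (Subtype.ext (Subtype.ext h))
    · exact Or.inr (Subtype.ext (Subtype.ext h))
  refine ⟨hcard, ⟨(QuotientGroup.quotientMulEquivOfEq hker.symm).trans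
    (QuotientGroup.quotientKerEquivOfSurjective p hsurj)⟩, fun L hL => ?_⟩
  obtain ⟨⟨⟨a, ha⟩, ⟨l, hl⟩⟩, he⟩ := hL.2 (⟨gx, gx_KF⟩ : KF)
  have hsq : (⟨gx, gx_KF⟩ : KF) * ⟨gx, gx_KF⟩ = a * l * (a * l) := by rw [← he]
  have hal : Commute a l := (Subgroup.mem_center_iff.1 ha l).symm
  have haa : a * a = 1 := by
    have h1 : (⟨a, ha⟩ : Subgroup.center KF) ^ 2 = 1 := hcard ▸ pow_card_eq_one'
    rw [sq] at h1
    exact congrArg Subtype.val h1
  rw [hal.symm.mul_mul_mul_comm, haa, one_mul] at hsq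
  have hL2 : (⟨gx ^ 2, hx2⟩ : KF) ∈ L := by
    have : (⟨gx, gx_KF⟩ : KF) * ⟨gx, gx_KF⟩ = ⟨gx ^ 2, hx2⟩ := Subtype.ext (sq gx).symm
    rw [← this, hsq]; exact mul_mem hl hl
  exact hne (congrArg Subtype.val (Subgroup.disjoint_def.1 hL.disjoint hmem hL2))

theorem KK_cover (hF : Nat.card F = 177408000) (hinj : Function.Injective nu) :
    IsNonsplitDoubleCover KK ↥Spor.HS := by
  obtain ⟨h1, ⟨h2⟩, h3⟩ := KF_cover hF
  let E : KF ≃* KK := KF.equivMapOfInjective nu hinj
  have hc : (Subgroup.center KF).map E.toMonoidHom = Subgroup.center KK := by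
    ext w
    simp only [Subgroup.mem_map, Subgroup.mem_center_iff]
    constructor
    · rintro ⟨u, hu, rfl⟩ g
      obtain ⟨g, rfl⟩ := E.surjective g
      show E g * E u = E u * E g
      rw [← map_mul, hu, map_mul]
    · intro hw
      obtain ⟨u, rfl⟩ := E.surjective w
      exact ⟨u, fun g => E.injective (by rw [map_mul, map_mul]; exact hw _), rfl⟩
  refine ⟨?_, ⟨(QuotientGroup.congr _ _ E hc).symm.trans h2⟩, fun L hL => h3 (L.comap E.toMonoidHom) ?_⟩
  · rw [← hc, ← h1]
    exact (Nat.card_congr ((Subgroup.center KF).equivMapOfInjective E.toMonoidHom E.injective).toEquiv).symm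
  · apply Subgroup.isComplement'_of_disjoint_and_mul_eq_univ
    · rw [Subgroup.disjoint_def]
      intro u hu1 hu2
      refine E.injective (?_ : E u = E 1)
      rw [map_one]
      exact Subgroup.disjoint_def.1 hL.disjoint (hc ▸ Subgroup.mem_map_of_mem _ hu1) hu2
    · refine Set.eq_univ_of_forall fun u => ?_
      obtain ⟨⟨⟨a, ha⟩, ⟨l, hl⟩⟩, he⟩ := hL.2 (E u)
      refine Set.mem_mul.2 ⟨E.symm a, ?_, E.symm l, ?_, ?_⟩
      · rw [← hc] at ha
        obtain ⟨b, hb, rfl⟩ := ha
        simpa using hb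
      · simpa using hl
      · rw [← map_mul]
        exact E.symm_apply_eq.2 he

/-- `Out HN = 2` from the order, the decomposition and the order of the model. -/
theorem card_out_of_order (hfin : Finite Spor.HN) (hcard : Nat.card Spor.HN = 273030912000000)
    (hrho : Function.Injective Cfsg.Agent.H16.HN.rho) (hF : Nat.card F = 177408000)
    (hinj : Function.Injective nu)
    (hdec : ∀ g : Spor.HN, ∃ h ∈ HH, ∃ j < 14, ∃ (i : ℕ), ∃ w ∈
      Subgroup.closure ({gX, gY} : Set Spor.HN), g = h * rep j * gT ^ i * w) :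
    Nat.card (Cfsg.Out Spor.HN) = 2 :=
  let ⟨h1, h2, h3, h4, h5⟩ := KK_facts hinj
  card_out_of_model (model hF hinj) hfin hcard hrho hdec h1 h2 h3 h4 h5 (KK_cover hF hinj)

end Cfsg.Agent.H87.HNOut
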