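import Cfsg.Agent.H67.HN.Inj
import Cfsg.Agent.H87.HNOut.ModelK
import Cfsg.Agent.H16.HN.Lower

/-!
`Out HN = 2` from the order, and the double coset decomposition.
-/

set_option autoImplicit false

namespace Cfsg.Agent.H87.HNOut

open Cfsg Cfsg.Spor

/-- The representation is faithful once the order is known. -/
theorem rho_injective_of_card (hfin : Finite Spor.HN)
    (hcard : Nat.card Spor.HN = 273030912000000) : Function.Injective H16.HN.rho := by
  have hle := Nat.card_le_card_of_surjective H16.HN.rho.rangeRestrict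
    H16.HN.rho.rangeRestrict_surjective
  have hge := Nat.le_of_dvd Nat.card_pos Cfsg.Agent.H16.HN.card_range_dvd
  have hb : Function.Bijective H16.HN.rho.rangeRestrict :=
    (Nat.bijective_iff_surjective_and_card _).2
      ⟨H16.HN.rho.rangeRestrict_surjective, by rw [hcard] at hle ⊢; omega⟩
  exact fun a b e => hb.1 (Subtype.ext e)

/-- `Out HN = 2` from the order and the decomposition `G = ⋃ H r N`. -/
theorem card_out_of_cert (hfin : Finite Spor.HN) (hcard : Nat.card Spor.HN = 273030912000000)
    (hdec : ∀ g : Spor.HN, ∃ h ∈ HH, ∃ j < 14, ∃ (i : ℕ), ∃ w ∈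
      Subgroup.closure ({gX, gY} : Set Spor.HN), g = h * rep j * gT ^ i * w) :
    Nat.card (Cfsg.Out Spor.HN) = 2 :=
  card_out_of_order hfin hcard (rho_injective_of_card hfin hcard) H67.HN.card_F
    H67.HN.nu_injective hdec

end Cfsg.Agent.H87.HNOut
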