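import Cfsg.Agent.H94.HS.Graph

/-!
Decidable tests for centralisers on the hundred points of the Higman–Sims graph.
-/

set_option autoImplicit false

namespace Cfsg.Agent.H87.HNOut.C100

open Cfsg.Agent.H94.HS
open Equiv

/-- The table of a word in the tables of a list. -/
def evT (gens : List ℕ) : List ℕ → ℕ
  | [] => one100
  | k :: w => mul100 (gens.getD k one100) (evT gens w)

theorem evT_spec {gens : List ℕ} {g : Perm (Fin 100)}
    (hg : ∀ T ∈ gens, ok100 T = true ∧ Commute g (perm100 T)) :
    ∀ w, ok100 (evT gens w) = true ∧ Commute g (perm100 (evT gens w))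
  | [] => ⟨one100_spec.1, by
      show Commute g (perm100 one100)
      rw [one100_spec.2]; exact Commute.one_right g⟩
  | k :: w => by
      obtain ⟨h1, h2⟩ := evT_spec hg w
      have hk : ok100 (gens.getD k one100) = true ∧ Commute g (perm100 (gens.getD k one100)) := by
        rcases Nat.lt_or_ge k gens.length with h | h
        · rw [List.getD_eq_getElem _ _ h]; exact hg _ (List.getElem_mem h)
        · rw [List.getD_eq_default _ _ h, one100_spec.2]
          exact ⟨one100_spec.1, Commute.one_right g⟩
      obtain ⟨h3, h4⟩ := mul100_spec hk.1 h1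
      exact ⟨h3, by show Commute g (perm100 (mul100 _ _)); rw [h4]; exact hk.2.mul_right h2⟩

/-- `p` is the only common fixed point of the tables. -/
def fixB (Ts : List ℕ) (p : ℕ) : Bool :=
  (Ts.all fun T => app100 T p == p) &&
    (List.range 100).all fun q => q == p || Ts.any fun T => !(app100 T q == q)

theorem fixB_spec {Ts : List ℕ} {g : Perm (Fin 100)}
    (hg : ∀ T ∈ Ts, ok100 T = true ∧ Commute g (perm100 T)) {p : Fin 100}
    (h : fixB Ts p = true) : g p = p := by
  simp only [fixB, Bool.and_eq_true, List.all_eq_true, List.mem_range, Bool.or_eq_true,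
    List.any_eq_true, beq_iff_eq, Bool.not_eq_true', beq_eq_false_iff_ne] at h
  apply Fin.ext
  rcases h.2 (g p) (g p).2 with e | ⟨T, hT, hne⟩
  · exact e
  · exfalso
    apply hne
    have hp : perm100 T p = p := Fin.ext ((perm100_val (hg T hT).1 p).trans (h.1 T hT))
    rw [← perm100_val (hg T hT).1 (g p), ← Perm.mul_apply, ← (hg T hT).2.eq, Perm.mul_apply, hp]

/-- Closure of known points along a list of steps. -/
def grow (gens : List ℕ) : List (ℕ × ℕ) → List ℕ → List ℕ
  | [], known => known
  | (i, k) :: rest, known =>
      if known.contains i then grow gens rest (app100 (gens.getD k one100) i :: known)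
      else grow gens rest known

theorem grow_spec {gens : List ℕ} {g : Perm (Fin 100)}
    (hg : ∀ T ∈ gens, ok100 T = true ∧ Commute g (perm100 T)) :
    ∀ (steps : List (ℕ × ℕ)) (known : List ℕ),
      (∀ q ∈ known, ∃ q' : Fin 100, (q' : ℕ) = q ∧ g q' = q') →
      ∀ q ∈ grow gens steps known, ∃ q' : Fin 100, (q' : ℕ) = q ∧ g q' = q'
  | [], known, hk => hk
  | (i, k) :: rest, known, hk => by
      by_cases hc : known.contains i = true
      · rw [grow, if_pos hc]
        refine grow_spec hg rest _ fun q hq => ?_
        rcases List.mem_cons.1 hq with rfl | hq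
        · obtain ⟨i', hi', hfix⟩ := hk i (List.contains_iff_mem.1 hc)
          obtain ⟨hok, hcm⟩ := evT_spec hg [k]
          have hok' : ok100 (gens.getD k one100) = true ∧
              Commute g (perm100 (gens.getD k one100)) := by
            rcases Nat.lt_or_ge k gens.length with h | h
            · rw [List.getD_eq_getElem _ _ h]; exact hg _ (List.getElem_mem h)
            · rw [List.getD_eq_default _ _ h, one100_spec.2]
              exact ⟨one100_spec.1, Commute.one_right g⟩
          refine ⟨perm100 (gens.getD k one100) i', ?_, ?_⟩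
          · rw [perm100_val hok'.1, hi']
          · rw [← Perm.mul_apply, hok'.2.eq, Perm.mul_apply, hfix]
        · exact hk q hq
      · rw [grow, if_neg hc]
        exact grow_spec hg rest _ hk

/-- A certificate that only the identity commutes with the tables. -/
def trivB (gens : List ℕ) (p q : ℕ) (wp wq : List (List ℕ)) (steps : List (ℕ × ℕ)) : Bool :=
  fixB (wp.map (evT gens)) p && fixB (wq.map (evT gens)) q &&
    let known := grow gens steps [p, q]
    (List.range 100).all fun v => known.contains v

theorem trivB_spec {gens : List ℕ} {g : Perm (Fin 100)}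
    (hg : ∀ T ∈ gens, ok100 T = true ∧ Commute g (perm100 T)) {p q : Fin 100}
    {wp wq : List (List ℕ)} {steps : List (ℕ × ℕ)}
    (h : trivB gens p q wp wq steps = true) : g = 1 := by
  simp only [trivB, Bool.and_eq_true, List.all_eq_true, List.mem_range] at h
  have hw : ∀ ws : List (List ℕ), ∀ T ∈ ws.map (evT gens), ok100 T = true ∧ Commute g (perm100 T) := by
    intro ws T hT
    obtain ⟨w, -, rfl⟩ := List.mem_map.1 hT
    exact evT_spec hg w
  have hp := fixB_spec (hw wp) h.1.1
  have hq := fixB_spec (hw wq) h.1.2
  refine Equiv.ext fun v => ?_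
  obtain ⟨v', hv', hfix⟩ := grow_spec hg steps [(p : ℕ), (q : ℕ)] (fun r hr => by
    simp only [List.mem_cons, List.not_mem_nil, or_false] at hr
    rcases hr with rfl | rfl
    · exact ⟨p, rfl, hp⟩
    · exact ⟨q, rfl, hq⟩) v (List.contains_iff_mem.1 (h.2 v v.2))
  rw [Perm.one_apply, ← Fin.ext hv']
  exact hfix

/-- Iterates of a table on a point. -/
def itA (S : ℕ) : ℕ → ℕ → ℕ
  | 0, a => a
  | k + 1, a => app100 S (itA S k a)

theorem itA_spec {S : ℕ} (hS : ok100 S = true) (k : ℕ) (a : Fin 100) :
    itA S k a = ((perm100 S ^ k) a : ℕ) := by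
  induction k with
  | zero => simp [itA]
  | succ k ih => rw [itA, ih, pow_succ', Perm.mul_apply, perm100_val hS]

/-- The points neither equal nor adjacent to `p`. -/
def farOf (p : ℕ) : List ℕ := (List.range 100).filter fun v => !(v == p) && !adjB p v

/-- The point `v` refutes the images `q, q'` of `a, b`. -/
def refutes (S p a b q q' v : ℕ) : Bool :=
  let ks := (List.range 11).filter fun k => adjB v (itA S k a)
  let ks' := (List.range 11).filter fun k => adjB v (itA S k b)
  !((farOf p).any fun w =>
      (ks.all fun k => adjB w (itA S k q)) && ks'.all fun k => adjB w (itA S k q'))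

/-- The neighbours of `p` are the orbits of `a` and `b`, and `p` is the only fixed point. -/
def shapeB (S p a b : ℕ) : Bool :=
  ok100 S && fixB [S] p &&
    (List.range 100).all fun i =>
      adjB p i == (List.range 11).any fun k => itA S k a == i || itA S k b == i

/-- A point far from `p` is determined by its neighbours next to `p`. -/
def uniqB (p : ℕ) : Bool :=
  let far := farOf p
  let near := (List.range 100).filter (adjB p)
  far.all fun v => far.all fun w => v == w || near.any fun i => adjB v i && !adjB w i

/-- Only powers of the table commute with it: the possible images of `a` and `b`. -/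
def candB (S p a b : ℕ) : Bool :=
  let near := (List.range 100).filter (adjB p)
  let far := farOf p
  near.all fun q => near.all fun q' =>
    ((List.range 11).any fun k => itA S k a == q && itA S k b == q') ||
      far.any fun v => refutes S p a b q q' v

theorem cent_eleven {S : ℕ} {p a b : Fin 100} (h1 : shapeB S p a b = true) (h2 : uniqB p = true)
    (h3 : candB S p a b = true) (hSg : perm100 S ∈ autG) {g : Perm (Fin 100)} (hg : g ∈ autG)
    (hc : Commute g (perm100 S)) : ∃ k : ℕ, g = perm100 S ^ k := by
  simp only [shapeB, Bool.and_eq_true, List.all_eq_true, List.mem_range, beq_iff_eq] at h1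
  obtain ⟨⟨hS, hfix⟩, hnear⟩ := h1
  have hp : ∀ g : Perm (Fin 100), Commute g (perm100 S) → g p = p := fun g hc =>
    fixB_spec (g := g) (by simp [hS, hc]) hfix
  have hmem : ∀ i : Fin 100, adjB p i = true ↔
      ∃ k, k < 11 ∧ ((perm100 S ^ k) a = i ∨ (perm100 S ^ k) b = i) := by
    intro i
    rw [hnear i i.2, List.any_eq_true]
    simp only [List.mem_range, Bool.or_eq_true, beq_iff_eq, itA_spec hS, Fin.val_inj]
  have hfarim : ∀ g : Perm (Fin 100), g ∈ autG → g p = p → ∀ v : Fin 100, (v : ℕ) ∈ farOf p →
      ((g v : Fin 100) : ℕ) ∈ farOf p := by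
    intro g hg hgp v hv
    simp only [farOf, List.mem_filter, List.mem_range, Bool.and_eq_true, Bool.not_eq_true',
      beq_eq_false_iff_ne] at hv ⊢
    refine ⟨(g v).2, fun e => hv.2.1 ?_, ?_⟩
    · exact congrArg Fin.val (g.injective ((Fin.ext e : g v = p).trans hgp.symm))
    · have := hg p v
      rw [hgp, hv.2.2] at this
      exact this.symm
  have hga : adjB p (g a) = true := by
    have h := (hmem a).2 ⟨0, by norm_num, Or.inl (by simp)⟩
    rwa [hg p a, hp g hc] at h
  have hgb : adjB p (g b) = true := by
    have h := (hmem b).2 ⟨0, by norm_num, Or.inr (by simp)⟩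
    rwa [hg p b, hp g hc] at h
  simp only [candB, List.all_eq_true, List.mem_filter, List.mem_range, Bool.or_eq_true,
    List.any_eq_true, Bool.and_eq_true, beq_iff_eq, and_imp] at h3
  rcases h3 (g a) (g a).2 hga (g b) (g b).2 hgb with ⟨k, -, e1, e2⟩ | ⟨v, hv, href⟩
  · rw [itA_spec hS] at e1 e2
    refine ⟨k, ?_⟩
    rw [← mul_inv_eq_one]
    obtain ⟨u, hu⟩ : ∃ u, u = g * (perm100 S ^ k)⁻¹ := ⟨_, rfl⟩
    rw [← hu]
    have hcu : Commute u (perm100 S) := hu ▸ hc.mul_left ((Commute.refl _).pow_left k).inv_left
    have hua : u ((perm100 S ^ k) a) = (perm100 S ^ k) a := by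
      rw [hu, Perm.mul_apply, Perm.inv_def, Equiv.symm_apply_apply]; exact (Fin.ext e1).symm
    have hub : u ((perm100 S ^ k) b) = (perm100 S ^ k) b := by
      rw [hu, Perm.mul_apply, Perm.inv_def, Equiv.symm_apply_apply]; exact (Fin.ext e2).symm
    have hu_near : ∀ i : Fin 100, adjB p i = true → u i = i := by
      have key : ∀ (c : Fin 100) (m : ℕ), u ((perm100 S ^ k) c) = (perm100 S ^ k) c →
          u ((perm100 S ^ m) c) = (perm100 S ^ m) c := by
        intro c m hc'
        have hc'' : u c = c := by
          have h := (hcu.pow_right k).eq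
          have h2 := DFunLike.congr_fun h c
          rw [Perm.mul_apply, Perm.mul_apply, hc'] at h2
          exact ((perm100 S ^ k).injective h2).symm
        rw [← Perm.mul_apply, (hcu.pow_right m).eq, Perm.mul_apply, hc'']
      intro i hi
      obtain ⟨m, -, rfl | rfl⟩ := (hmem i).1 hi
      · exact key a m hua
      · exact key b m hub
    refine Equiv.ext fun v => ?_
    by_cases hvp : v = p
    · rw [hvp]; exact hp u hcu
    by_cases hva : adjB p v = true
    · exact hu_near v hva
    have hv : (v : ℕ) ∈ farOf p := by
      simp only [farOf, List.mem_filter, List.mem_range, Bool.and_eq_true, Bool.not_eq_true',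
        beq_eq_false_iff_ne]
      exact ⟨v.2, fun e => hvp (Fin.ext e), by simpa using hva⟩
    have hSaut : u ∈ autG → u v = v := by
      intro hu'
      simp only [uniqB, List.all_eq_true, Bool.or_eq_true, beq_iff_eq, List.any_eq_true,
        List.mem_filter, List.mem_range, Bool.and_eq_true, Bool.not_eq_true'] at h2
      rcases h2 v hv (u v) (hfarim u hu' (hp u hcu) v hv) with e | ⟨i, ⟨hi, hpi⟩, hv1, hv2⟩
      · exact (Fin.ext e).symm
      · exfalso
        have h := hu' v ⟨i, hi⟩
        rw [hu_near ⟨i, hi⟩ hpi] at h
        rw [h] at hv1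
        exact Bool.noConfusion (hv2.symm.trans hv1)
    apply hSaut
    rw [hu]
    exact mul_mem hg (inv_mem (pow_mem hSg k))
  · exfalso
    simp only [refutes, Bool.not_eq_true', List.any_eq_false, Bool.and_eq_true, List.all_eq_true,
      List.mem_filter, List.mem_range] at href
    have hv100 : v < 100 := by
      simp only [farOf, List.mem_filter, List.mem_range] at hv; exact hv.1
    refine href _ (hfarim g hg (hp g hc) ⟨v, hv100⟩ hv) ⟨?_, ?_⟩
    · rintro m ⟨-, hm⟩
      rw [itA_spec hS, ← Perm.mul_apply, ← (hc.pow_right m).eq, Perm.mul_apply]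
      rw [itA_spec hS, hg ⟨v, hv100⟩] at hm
      exact hm
    · rintro m ⟨-, hm⟩
      rw [itA_spec hS, ← Perm.mul_apply, ← (hc.pow_right m).eq, Perm.mul_apply]
      rw [itA_spec hS, hg ⟨v, hv100⟩] at hm
      exact hm

end Cfsg.Agent.H87.HNOut.C100
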