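import Cfsg.Agent.H87.HNOut.Rels
import Cfsg.Agent.H87.HNOut.C100

/-!
Centralisers inside `⟨x, y, z⟩` read off from its action on the hundred points.
-/

set_option autoImplicit false
set_option maxRecDepth 100000

namespace Cfsg.Agent.H87.HNOut

open Cfsg Cfsg.Spor
open Cfsg.Agent.H94.HS (autG ok100 graphB perm100 perm100_val mul100 mul100_spec one100 one100_spec
  app100 perm100_mem_autG)
open Cfsg.Agent.H87.HNOut.C100

/-- A model of `⟨x, y, z⟩` with its action on the hundred points. -/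
structure Model100 {F : Type} [Group F] (nu : F →* Spor.HN) (chi : F →* Equiv.Perm (Fin 100))
    (ax ay az : F) (TX TY TZ : ℕ) : Prop where
  inj : Function.Injective nu
  range_eq : nu.range = HH
  nx : nu ax = gX
  ny : nu ay = gY
  nz : nu az = gZ
  cx : chi ax = perm100 TX
  cy : chi ay = perm100 TY
  cz : chi az = perm100 TZ
  aut : ∀ f, chi f ∈ autG
  ker : ∀ f, chi f = 1 → f = 1 ∨ f = ax ^ 2
  cne : gX ^ 2 ≠ 1

/-- The word `x y³ z y z`. -/
def wS {G : Type} [Group G] (a b d : G) : G := a * b * b * b * d * b * d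

/-- The element of order eleven. -/
abbrev sHN : Spor.HN := wS gX gY gZ * wS gX gY gZ

/-- The table of `x y³ z y z`. -/
def wT (TX TY TZ : ℕ) : ℕ :=
  mul100 TX (mul100 TY (mul100 TY (mul100 TY (mul100 TZ (mul100 TY TZ)))))

/-- The table of `x y x⁻¹`. -/
def uT (TX TY : ℕ) : ℕ := mul100 TX (mul100 TY TX)

/-- The tables are permutations, `x` an involution on the points. -/
def baseB (TX TY TZ : ℕ) : Bool :=
  ok100 TX && ok100 TY && ok100 TZ && Nat.beq (mul100 TX TX) one100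

variable {F : Type} [Group F] {nu : F →* Spor.HN} {chi : F →* Equiv.Perm (Fin 100)}
  {ax ay az : F} {TX TY TZ : ℕ}

namespace Model100

variable (M : Model100 nu chi ax ay az TX TY TZ) (hb : baseB TX TY TZ = true)
include M hb

theorem oks : ok100 TX = true ∧ ok100 TY = true ∧ ok100 TZ = true := by
  simp only [baseB, Bool.and_eq_true] at hb
  exact ⟨hb.1.1.1, hb.1.1.2, hb.1.2⟩

theorem xx_mem_ker : chi (ax ^ 2) = 1 := by
  obtain ⟨h1, -, -⟩ := M.oks hb
  simp only [baseB, Bool.and_eq_true, Nat.beq_eq] at hb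
  obtain ⟨-, h⟩ := mul100_spec h1 h1
  rw [map_pow, M.cx, sq, ← h, hb.2, one100_spec.2]

theorem ax2_ne : ax ^ 2 ≠ 1 := fun e => M.cne (by rw [← M.nx, ← map_pow, e, map_one])

theorem csq : gX ^ 2 * gX ^ 2 = 1 := by
  have h : chi (ax ^ 2 * ax ^ 2) = 1 := by rw [map_mul, M.xx_mem_ker hb, one_mul]
  rcases M.ker _ h with e | e
  · rw [← M.nx, ← map_pow, ← map_mul, e, map_one]
  · exact absurd (mul_eq_left.1 e) (M.ax2_ne hb)

theorem central (f : F) : ax ^ 2 * f = f * ax ^ 2 := by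
  have h : chi (f * ax ^ 2 * f⁻¹) = 1 := by
    rw [map_mul, map_mul, M.xx_mem_ker hb, mul_one, ← map_mul, mul_inv_cancel, map_one]
  rcases M.ker _ h with e | e
  · exact absurd (conj_eq_one_iff.1 e) (M.ax2_ne hb)
  · exact (mul_inv_eq_iff_eq_mul.1 e).symm

theorem ccent : ∀ h ∈ HH, gX ^ 2 * h = h * gX ^ 2 := by
  intro h hh
  obtain ⟨f, rfl⟩ := (M.range_eq ▸ hh : h ∈ nu.range)
  rw [← M.nx, ← map_pow, ← map_mul, ← map_mul, M.central hb]

theorem chi_wS : ok100 (wT TX TY TZ) = true ∧ chi (wS ax ay az) = perm100 (wT TX TY TZ) := by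
  obtain ⟨h1, h2, h3⟩ := M.oks hb
  obtain ⟨a1, b1⟩ := mul100_spec h2 h3
  obtain ⟨a2, b2⟩ := mul100_spec h3 a1
  obtain ⟨a3, b3⟩ := mul100_spec h2 a2
  obtain ⟨a4, b4⟩ := mul100_spec h2 a3
  obtain ⟨a5, b5⟩ := mul100_spec h2 a4
  obtain ⟨a6, b6⟩ := mul100_spec h1 a5
  refine ⟨a6, ?_⟩
  show _ = perm100 (mul100 _ _)
  rw [b6, b5, b4, b3, b2, b1, wS]
  simp only [map_mul, M.cx, M.cy, M.cz, mul_assoc]

theorem nu_wS : nu (wS ax ay az) = wS gX gY gZ := by
  simp only [wS, map_mul, M.nx, M.ny, M.nz]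

/-- The centraliser in `H` of the two generators of `U`. -/
theorem cent_H_U {p q : Fin 100} {wp wq : List (List ℕ)} {steps : List (ℕ × ℕ)}
    (ht : trivB [TY, uT TX TY] p q wp wq steps = true) {K : Subgroup Spor.HN} (hx : gX ∈ K)
    (hy : gY ∈ K) : ∀ h ∈ HH, (∀ u ∈ K, u * gT = gT * u → h * u = u * h) →
      h = 1 ∨ h = gX ^ 2 := by
  intro h hh hu
  obtain ⟨f, rfl⟩ := (M.range_eq ▸ hh : h ∈ nu.range)
  have e1 : Commute f ay := M.inj (by
    rw [map_mul, map_mul, M.ny]; exact hu gY hy tyc)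
  have hxt : gX * gY * gX⁻¹ * gT = gT * (gX * gY * gX⁻¹) := by
    have hy3 : gY * gT ^ 3 = gT ^ 3 * gY := (Commute.pow_right tyc 3).eq
    calc gX * gY * gX⁻¹ * gT = gX * (gY * (gX⁻¹ * gT * gX)) * gX⁻¹ := by group
      _ = gX * ((gX⁻¹ * gT * gX) * gY) * gX⁻¹ := by rw [txc, hy3]
      _ = _ := by group
  have hn2 : nu (ax * ay * ax⁻¹) = gX * gY * gX⁻¹ := by
    rw [map_mul, map_mul, map_inv, M.nx, M.ny]
  have e2 : Commute f (ax * ay * ax⁻¹) := M.inj (by
    rw [map_mul nu f, map_mul nu _ f, hn2]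
    exact hu _ (mul_mem (mul_mem hx hy) (inv_mem hx)) hxt)
  obtain ⟨h1, h2, -⟩ := M.oks hb
  obtain ⟨a1, b1⟩ := mul100_spec h2 h1
  obtain ⟨a2, b2⟩ := mul100_spec h1 a1
  have a2' : ok100 (uT TX TY) = true := by unfold uT; exact a2
  have hU : chi (ax * ay * ax⁻¹) = perm100 (uT TX TY) := by
    have hi : (chi ax)⁻¹ = chi ax := inv_eq_of_mul_eq_one_right (by
      rw [← map_mul, ← sq, M.xx_mem_ker hb])
    unfold uT
    rw [b2, b1, map_mul, map_mul, map_inv, hi, M.cx, M.cy, mul_assoc]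
  have hg : ∀ T ∈ [TY, uT TX TY], ok100 T = true ∧ Commute (chi f) (perm100 T) := by
    intro T hT
    rw [List.mem_cons, List.mem_singleton] at hT
    rcases hT with e | e
    · rw [e]
      have e' := e1.map chi
      rw [M.cy] at e'
      exact ⟨h2, e'⟩
    · rw [e]
      have e' := e2.map chi
      rw [hU] at e'
      exact ⟨a2', e'⟩
  have h3 : chi f = 1 :=
    trivB_spec (gens := [TY, uT TX TY]) (g := chi f) (p := p) (q := q) hg ht
  rcases M.ker f h3 with rfl | rfl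
  · exact Or.inl (map_one nu)
  · exact Or.inr (by rw [map_pow, M.nx])

theorem chi_s : ok100 (mul100 (wT TX TY TZ) (wT TX TY TZ)) = true ∧
    chi (wS ax ay az * wS ax ay az) = perm100 (mul100 (wT TX TY TZ) (wT TX TY TZ)) := by
  obtain ⟨h1, h2⟩ := M.chi_wS hb
  obtain ⟨h3, h4⟩ := mul100_spec h1 h1
  exact ⟨h3, by rw [h4, map_mul, h2]⟩

/-- The centraliser in `H` of the element of order eleven. -/
theorem cent_H_s {p a b : Fin 100}
    (h1 : shapeB (mul100 (wT TX TY TZ) (wT TX TY TZ)) p a b = true) (h2 : uniqB p = true)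
    (h3 : candB (mul100 (wT TX TY TZ) (wT TX TY TZ)) p a b = true) :
    ∀ h ∈ HH, h * sHN = sHN * h → ∃ i : ℕ, h = sHN ^ i ∨ h = gX ^ 2 * sHN ^ i := by
  intro h hh hc
  obtain ⟨f, rfl⟩ := (M.range_eq ▸ hh : h ∈ nu.range)
  have hn : nu (wS ax ay az * wS ax ay az) = sHN := by rw [map_mul, M.nu_wS hb]
  have hcf : Commute f (wS ax ay az * wS ax ay az) := M.inj (by
    rw [map_mul nu f, map_mul nu _ f, hn]; exact hc)
  obtain ⟨-, hs⟩ := M.chi_s hb
  obtain ⟨k, hk⟩ := cent_eleven h1 h2 h3 (hs ▸ M.aut _) (M.aut f) (hs ▸ hcf.map chi)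
  have h4 : chi (f * ((wS ax ay az * wS ax ay az) ^ k)⁻¹) = 1 := by
    rw [map_mul, map_inv, map_pow, hs, hk, mul_inv_cancel]
  refine ⟨k, ?_⟩
  rw [← hn, ← map_pow]
  rcases M.ker _ h4 with e | e
  · left
    rw [mul_inv_eq_one.1 e]
  · right
    rw [← M.nx, ← map_pow, ← map_mul, mul_inv_eq_iff_eq_mul.1 e]

/-- The order of `s`. -/
theorem s_order (hp : Nat.beq (Cfsg.Agent.H94.HS.pow100 11 (wT TX TY TZ)) one100 = true)
    (hne : Nat.beq (mul100 (wT TX TY TZ) (wT TX TY TZ)) one100 = false) :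
    sHN ^ 11 = 1 ∧ sHN ≠ 1 := by
  obtain ⟨hok, hw⟩ := M.chi_wS hb
  constructor
  · have h : chi (wS ax ay az ^ 11) = 1 := by
      rw [map_pow, hw, ← (Cfsg.Agent.H94.HS.pow100_spec hok 11).2, Nat.eq_of_beq_eq_true hp,
        one100_spec.2]
    have hn : nu (wS ax ay az ^ 11 * wS ax ay az ^ 11) = sHN ^ 11 := by
      rw [map_mul, map_pow, M.nu_wS hb, (Commute.refl (wS gX gY gZ)).mul_pow]
    rw [← hn]
    rcases M.ker _ h with e | e <;> rw [e]
    · simp
    · rw [map_mul, map_pow, M.nx, M.csq hb]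
  · intro e
    obtain ⟨hok2, hs⟩ := M.chi_s hb
    have h : wS ax ay az * wS ax ay az = 1 := M.inj (by
      rw [map_mul, M.nu_wS hb, map_one]; exact e)
    rw [h, map_one, ← one100_spec.2] at hs
    have := Cfsg.Agent.H94.HS.perm100_inj one100_spec.1 hok2 hs
    rw [← this, Nat.beq_refl] at hne
    exact Bool.noConfusion hne

end Model100

end Cfsg.Agent.H87.HNOut
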