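import Cfsg.Agent.H87.HNOut.Out
import Cfsg.Agent.H87.HNOut.RepFacts

/-!
The hypotheses of `card_out` for presented `HN`, from the data of `⟨x, y, z⟩` and of its cosets.
-/

set_option autoImplicit false
set_option maxRecDepth 100000

namespace Cfsg.Agent.H87.HNOut

open Cfsg Cfsg.Spor
open Cfsg.Agent.H16.HN (rho)

/-- What is needed on the order, the cosets and the subgroup `⟨x, y, z⟩` of presented `HN`. -/
structure Inputs (K : Subgroup Spor.HN) (s : Spor.HN) : Prop where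
  fin : Finite Spor.HN
  card : Nat.card Spor.HN = 273030912000000
  rho_inj : Function.Injective rho
  decomp : ∀ g : Spor.HN, ∃ h ∈ HH, ∃ j < 14, ∃ (i : ℕ), ∃ w ∈
    Subgroup.closure ({gX, gY} : Set Spor.HN), g = h * rep j * gT ^ i * w
  xK : gX ∈ K
  yK : gY ∈ K
  zK : gZ ∉ K
  Kle : K ≤ HH
  znorm : ∀ k ∈ K, gZ * k * gZ⁻¹ ∈ K
  cover : IsNonsplitDoubleCover K ↥Spor.HS
  ccent : ∀ h ∈ HH, gX ^ 2 * h = h * gX ^ 2
  csq : gX ^ 2 * gX ^ 2 = 1
  sK : s ∈ K
  sord : s ^ 11 = 1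
  sne : s ≠ 1
  cent_H_s : ∀ h ∈ HH, h * s = s * h → ∃ i : ℕ, h = s ^ i ∨ h = gX ^ 2 * s ^ i
  cent_H_U : ∀ h ∈ HH, (∀ u ∈ K, u * gT = gT * u → h * u = u * h) → h = 1 ∨ h = gX ^ 2

theorem xy_le_HH : Subgroup.closure ({gX, gY} : Set Spor.HN) ≤ HH := by
  refine Subgroup.closure_mono ?_
  intro a ha
  rcases ha with rfl | rfl <;> simp

theorem conj_c (h2 : gX ^ 2 * gX ^ 2 = 1) (i : ℕ) : gX ^ 2 * gT ^ i * gX ^ 2 = gT ^ (4 * i) := by
  have h : (gX ^ 2)⁻¹ * gT * gX ^ 2 = gT ^ 4 := by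
    have e : (gX ^ 2)⁻¹ * gT * gX ^ 2 = gX⁻¹ * (gX⁻¹ * gT * gX) * gX := by rw [sq]; group
    have e' : gX⁻¹ * gT ^ 3 * gX = (gX⁻¹ * gT * gX) ^ 3 := by
      simpa using map_pow (MulAut.conj gX⁻¹) gT 3
    rw [e, txc, e', txc, ← pow_mul, pow_eq_pow_mod (3 * 3) tfive]
  have hci : (gX ^ 2)⁻¹ = gX ^ 2 := inv_eq_of_mul_eq_one_right h2
  rw [hci] at h
  rw [pow_mul, ← h]
  have := map_pow (MulAut.conj (gX ^ 2)) gT i
  rwa [MulAut.conj_apply, MulAut.conj_apply, hci] at this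

variable {K : Subgroup Spor.HN} {s : Spor.HN} (hI : Inputs K s)
include hI

theorem cent_c : ∀ g, g * gX ^ 2 = gX ^ 2 * g → g ∈ HH := by
  intro g hg
  obtain ⟨h, hh, j, hj, i, w, hw, rfl⟩ := hI.decomp g
  have hhc : Commute h (gX ^ 2) := (hI.ccent h hh).symm
  have hwc : Commute w (gX ^ 2) := (hI.ccent w (xy_le_HH hw)).symm
  have hm : Commute (rep j * gT ^ i) (gX ^ 2) := by
    have e : rep j * gT ^ i = h⁻¹ * (h * rep j * gT ^ i * w) * w⁻¹ := by group
    rw [e]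
    exact (hhc.inv_left.mul_left hg).mul_left hwc.inv_left
  rcases Nat.eq_zero_or_pos j with rfl | hpos
  · rw [rep_zero, one_mul] at hm
    have e : gT ^ (4 * i) = gT ^ i := by
      rw [← conj_c hI.csq, mul_assoc, hm.eq, ← mul_assoc, hI.csq, one_mul]
    have h0 : i % 5 = 0 := by
      rw [pow_eq_pow_mod (4 * i) tfive, pow_eq_pow_mod i tfive] at e
      have ho : orderOf gT = 5 := by
        have := Fact.mk (show Nat.Prime 5 by norm_num)
        exact orderOf_eq_prime tfive misc.2.2.1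
      have := pow_injOn_Iio_orderOf (x := gT) (by simp [ho]; omega) (by simp [ho]; omega) e
      omega
    rw [pow_eq_pow_mod i tfive, h0, pow_zero, mul_one, rep_zero, mul_one]
    exact mul_mem hh (xy_le_HH hw)
  · exfalso
    apply repA hpos hj (i + i)
    have e : gT ^ i * gX ^ 2 = (rep j)⁻¹ * gX ^ 2 * rep j * gT ^ i :=
      calc gT ^ i * gX ^ 2 = (rep j)⁻¹ * (rep j * gT ^ i * gX ^ 2) := by group
        _ = _ := by rw [hm.eq]; group
    calc (rep j)⁻¹ * gX ^ 2 * rep j * gX ^ 2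
        = gT ^ i * (gX ^ 2 * (gT ^ i)⁻¹ * gX ^ 2) := by
          rw [← mul_assoc, ← mul_assoc, e]; group
      _ = gT ^ i * gT ^ i := by
          congr 1
          have h4 : (gT ^ i)⁻¹ = gT ^ (4 * i) :=
            inv_eq_of_mul_eq_one_right (by
              rw [← pow_add, show i + 4 * i = 5 * i by ring, pow_mul, tfive, one_pow])
          rw [h4, conj_c hI.csq, ← mul_assoc, show 4 * 4 * i = i + 5 * (3 * i) by ring, pow_add,
            pow_mul gT 5, tfive, one_pow, mul_one]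
      _ = gT ^ (i + i) := (pow_add _ _ _).symm

theorem cent_U : ∀ g, g ^ 5 = 1 → (∀ u ∈ K, u * gT = gT * u → g * u = u * g) →
    ∃ i : ℕ, g = gT ^ i := by
  intro g hg5 hg
  obtain ⟨h, hh, j, hj, i, w, hw, rfl⟩ := hI.decomp g
  have hwK : w ∈ K := (Subgroup.closure_le _).2 (by
    intro a ha; rcases ha with rfl | rfl; exacts [hI.xK, hI.yK]) hw
  rcases Nat.eq_zero_or_pos j with rfl | hpos
  · obtain ⟨k, hk⟩ := conj_t w⁻¹ (inv_mem hw)
    obtain ⟨l, hl⟩ : ∃ l, gT ^ l = w⁻¹ * gT ^ i * w := by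
      refine ⟨k * i, ?_⟩
      have := map_pow (MulAut.conj w⁻¹) gT i
      rw [MulAut.conj_apply, MulAut.conj_apply, inv_inv] at this
      rw [pow_mul, ← hk, inv_inv, this]
    have e : h * rep 0 * gT ^ i * w = h * w * gT ^ l := by
      rw [rep_zero, mul_one, hl]
      group
    rw [e] at hg5 hg ⊢
    have hc : ∀ u ∈ K, u * gT = gT * u → h * w * u = u * (h * w) := by
      intro u hu hut
      have h1 := hg u hu hut
      have h2 : gT ^ l * u = u * gT ^ l := (Commute.pow_right hut l).eq.symm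
      rw [mul_assoc (h * w), h2, ← mul_assoc, ← mul_assoc u] at h1
      exact mul_right_cancel h1
    rcases hI.cent_H_U _ (mul_mem hh (xy_le_HH hw)) hc with e1 | e1
    · exact ⟨l, by rw [e1, one_mul]⟩
    · refine ⟨0, ?_⟩
      rw [e1] at hg5 ⊢
      have hsq : (gX ^ 2 * gT ^ l) ^ 2 = 1 := by
        rw [sq (gX ^ 2 * gT ^ l), ← mul_assoc, conj_c hI.csq, ← pow_add,
          show 4 * l + l = 5 * l by ring, pow_mul, tfive, one_pow]
      rw [pow_zero]
      rw [show 5 = 2 * 2 + 1 from rfl, pow_add, pow_mul, hsq, one_pow, one_mul, pow_one] at hg5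
      exact hg5
  · exfalso
    obtain ⟨k, hk⟩ := conj_t w hw
    have hu : w⁻¹ * gY * w ∈ K := mul_mem (mul_mem (inv_mem hwK) hI.yK) hwK
    have hut : w⁻¹ * gY * w * gT = gT * (w⁻¹ * gY * w) := by
      have hyk : gY * gT ^ k = gT ^ k * gY := (Commute.pow_right tyc k).eq
      calc w⁻¹ * gY * w * gT = w⁻¹ * (gY * (w * gT * w⁻¹)) * w := by group
        _ = w⁻¹ * ((w * gT * w⁻¹) * gY) * w := by rw [hk, hyk]
        _ = _ := by group
    have h1 := hg _ hu hut
    apply repB hpos hj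
    have hyi : gT ^ i * gY = gY * gT ^ i := (Commute.pow_right tyc i).eq.symm
    have hmem : rep j * gY * (rep j)⁻¹ ∈ HH := by
      have e : rep j * gY * (rep j)⁻¹ = h⁻¹ * (w⁻¹ * gY * w) * h := by
        calc rep j * gY * (rep j)⁻¹ = rep j * (gY * gT ^ i) * (gT ^ i)⁻¹ * (rep j)⁻¹ := by group
          _ = h⁻¹ * ((h * rep j * gT ^ i * w) * (w⁻¹ * gY * w)) *
              (h * rep j * gT ^ i * w)⁻¹ * h := by rw [← hyi]; group
          _ = _ := by rw [h1]; group
      rw [e]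
      exact mul_mem (mul_mem (inv_mem hh) (hI.Kle hu)) hh
    exact (hI.ccent _ hmem).symm

theorem twist : ∃ f : Spor.HN →* Spor.HN,
    f gX = gX ∧ f gY = gY ∧ f gZ = gZ * gX ^ 2 ∧ f gT = gT ^ 2 := by
  set c := gX ^ 2 with hc
  let F : HN.Gen → Spor.HN
    | HN.Gen.x => gX
    | HN.Gen.y => gY
    | HN.Gen.z => gZ * c
    | HN.Gen.t => gT ^ 2
  suffices hrel : ∀ r ∈ coxRelators HN.edges ∪ {r | r ∈ HN.extra}, FreeGroup.lift F r = 1 by
    exact ⟨PresentedGroup.toGroup hrel, PresentedGroup.toGroup.of hrel, PresentedGroup.toGroup.of hrel,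
      PresentedGroup.toGroup.of hrel, PresentedGroup.toGroup.of hrel⟩
  have hx : FreeGroup.lift F HN.x = gX := FreeGroup.lift_apply_of
  have hy : FreeGroup.lift F HN.y = gY := FreeGroup.lift_apply_of
  have hz : FreeGroup.lift F HN.z = gZ * c := FreeGroup.lift_apply_of
  have ht : FreeGroup.lift F HN.t = gT ^ 2 := FreeGroup.lift_apply_of
  have hcZ : Commute c gZ := hI.ccent gZ (Subgroup.subset_closure (by simp))
  have hcX : Commute c gX := hI.ccent gX (Subgroup.subset_closure (by simp))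
  have hcY : Commute c gY := hI.ccent gY (Subgroup.subset_closure (by simp))
  rintro r (hr | hr)
  · simp [coxRelators, coxNodes, HN.edges] at hr
  have h0 := rel_one hr
  simp only [HN.extra, Set.mem_ofPred_eq, List.mem_cons, List.not_mem_nil, or_false] at hr
  rcases hr with rfl | rfl | rfl | rfl | rfl | rfl | rfl | rfl | rfl | rfl | rfl | rfl | rfl | rfl <;>
    simp only [map_mul, map_inv, map_pow, hx, hy, hz, ht] at h0 ⊢
  · exact h0
  · exact h0
  · exact h0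
  · exact h0
  · exact h0
  · exact h0
  · rw [sq, mul_assoc, ← mul_assoc c, hcZ.eq, mul_assoc gZ c, hI.csq, mul_one, zsq]
  · rw [sq, mul_assoc gZ c, hcX.eq, ← mul_assoc gZ gX c]
    rw [(hcZ.mul_right hcX).mul_mul_mul_comm, hI.csq, mul_one, ← sq, zx_sq]
  · change gZ⁻¹ * (gY * gX * gY * gX * gY ^ 2 * gX * gY⁻¹)⁻¹ * gZ *
      (gY * gX * gY * gX * gY ^ 2 * gX * gY⁻¹) * c⁻¹ = 1 at h0
    generalize hA : gY * gX * gY * gX * gY ^ 2 * gX * gY⁻¹ = A at h0 ⊢
    have hcA : Commute c A := by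
      rw [← hA]
      exact ((((((hcY.mul_right hcX).mul_right hcY).mul_right hcX).mul_right
        (hcY.pow_right 2)).mul_right hcX).mul_right hcY.inv_right)
    have hcm : Commute c (gZ⁻¹ * A⁻¹ * gZ) :=
      (hcZ.inv_right.mul_right hcA.inv_right).mul_right hcZ
    calc (gZ * c)⁻¹ * A⁻¹ * (gZ * c) * A * c⁻¹
        = c⁻¹ * ((gZ⁻¹ * A⁻¹ * gZ) * c) * A * c⁻¹ := by group
      _ = gZ⁻¹ * A⁻¹ * gZ * A * c⁻¹ := by rw [← hcm.eq]; group
      _ = 1 := h0
  · change gZ * ((gY ^ 3 * gX * gY * gX * gY)⁻¹ * gZ * (gY ^ 3 * gX * gY * gX * gY) * gX) ^ 3 = 1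
      at h0
    generalize hA : gY ^ 3 * gX * gY * gX * gY = A at h0 ⊢
    have hcA : Commute c A := by
      rw [← hA]
      exact (((((hcY.pow_right 3).mul_right hcX).mul_right hcY).mul_right hcX).mul_right hcY)
    have hcm : Commute c (A⁻¹ * gZ * A * gX) :=
      ((hcA.inv_right.mul_right hcZ).mul_right hcA).mul_right hcX
    have e : A⁻¹ * (gZ * c) * A * gX = A⁻¹ * gZ * A * gX * c := by
      rw [mul_assoc _ A, mul_assoc _ A gX]
      have := (hcA.mul_right hcX).eq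
      simp only [mul_assoc] at this ⊢
      rw [this]
    rw [e, hcm.symm.mul_pow, pow_succ c, sq c, hI.csq, one_mul]
    calc gZ * c * ((A⁻¹ * gZ * A * gX) ^ 3 * c)
        = gZ * ((c * (A⁻¹ * gZ * A * gX) ^ 3) * c) := by group
      _ = 1 := by rw [(hcm.pow_right 3).eq, mul_assoc ((A⁻¹ * gZ * A * gX) ^ 3), hI.csq, mul_one, h0]
  · rw [← pow_mul, mul_comm, pow_mul, tfive, one_pow]
  · have := map_pow (MulAut.conj gX⁻¹) gT 2
    rw [MulAut.conj_apply, MulAut.conj_apply, inv_inv] at this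
    rw [this, txc, ← pow_mul, ← pow_mul, ← pow_add, show 3 * 2 + 2 * 2 = 5 * 2 from rfl, pow_mul,
      tfive, one_pow]
  · have hyk : gY * gT ^ 2 = gT ^ 2 * gY := (Commute.pow_right tyc 2).eq
    rw [mul_assoc, ← hyk]
    group
  · apply hI.rho_inj
    rw [misc.2.2.2.2, map_one]

theorem hyp : Hyp gX gY gZ gT K s where
  fin := hI.fin
  card := hI.card
  gen := gen_top
  zsq := zsq
  xK := hI.xK
  yK := hI.yK
  zK := hI.zK
  Kle := hI.Kle
  znorm := hI.znorm
  cover := hI.cover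
  ccent := hI.ccent
  csq := hI.csq
  cne := misc.2.2.2.1
  sK := hI.sK
  sord := hI.sord
  sne := hI.sne
  cent_cs := fun g hg hgc => hI.cent_H_s g (cent_c hI g hgc) hg
  cent_c := cent_c hI
  tord := tfive
  tne := misc.2.2.1
  txc := txc
  cent_U := cent_U hI
  twist := twist hI
  zt3 := zt_cube
  ne1 := misc.1
  ne2 := misc.2.1

/-- The statement from the inputs. -/
theorem card_out_HN : Nat.card (Cfsg.Out Spor.HN) = 2 := card_out (hyp hI)

end Cfsg.Agent.H87.HNOut
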