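import Cfsg.Agent.H87.HNOut.HSFacts
import Cfsg.Prelude.Def_SporadicB

/-!
The outer automorphism group of a group with the local properties of `HN` on generators
`x, y, z, t` has order 2.
-/

set_option autoImplicit false

namespace Cfsg.Agent.H87.HNOut

open Cfsg
open scoped commutatorElement

/-- The properties of `HN` that are used. -/
structure Hyp {G : Type} [Group G] (x y z t : G) (K : Subgroup G) (s : G) : Prop where
  fin : Finite G
  card : Nat.card G = 273030912000000
  gen : Subgroup.closure ({x, y, z, t} : Set G) = ⊤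
  zsq : z * z = 1
  xK : x ∈ K
  yK : y ∈ K
  zK : z ∉ K
  Kle : K ≤ Subgroup.closure ({x, y, z} : Set G)
  znorm : ∀ k ∈ K, z * k * z⁻¹ ∈ K
  cover : IsNonsplitDoubleCover K ↥Spor.HS
  ccent : ∀ h ∈ Subgroup.closure ({x, y, z} : Set G), x ^ 2 * h = h * x ^ 2
  csq : x ^ 2 * x ^ 2 = 1
  cne : x ^ 2 ≠ 1
  sK : s ∈ K
  sord : s ^ 11 = 1
  sne : s ≠ 1
  cent_cs : ∀ g, g * s = s * g → g * x ^ 2 = x ^ 2 * g → ∃ i : ℕ, g = s ^ i ∨ g = x ^ 2 * s ^ i
  cent_c : ∀ g, g * x ^ 2 = x ^ 2 * g → g ∈ Subgroup.closure ({x, y, z} : Set G)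
  tord : t ^ 5 = 1
  tne : t ≠ 1
  txc : x⁻¹ * t * x = t ^ 3
  cent_U : ∀ g, g ^ 5 = 1 → (∀ u ∈ K, u * t = t * u → g * u = u * g) → ∃ i : ℕ, g = t ^ i
  twist : ∃ f : G →* G, f x = x ∧ f y = y ∧ f z = z * x ^ 2 ∧ f t = t ^ 2
  zt3 : (z * t) ^ 3 = 1
  ne1 : (z * t ^ 2) ^ 3 ≠ 1
  ne2 : (z * x ^ 2 * t) ^ 3 ≠ 1

variable {G : Type} [Group G] {x y z t : G} {K : Subgroup G} {s : G}

theorem mulAut_ext (hy : Hyp x y z t K s) {a b : MulAut G} (h1 : a x = b x) (h2 : a y = b y)
    (h3 : a z = b z) (h4 : a t = b t) : a = b := by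
  have h := MonoidHom.eq_of_eqOn_dense hy.gen (f := a.toMonoidHom) (g := b.toMonoidHom)
    (by
      intro w hw
      simp only [Set.mem_insert_iff, Set.mem_singleton_iff] at hw
      rcases hw with rfl | rfl | rfl | rfl <;> assumption)
  exact MulEquiv.ext fun w => DFunLike.congr_fun h w

section Local

variable (hy : Hyp x y z t K s)
include hy

theorem c_mem : x ^ 2 ∈ K := pow_mem hy.xK 2

theorem c_inv : (x ^ 2)⁻¹ = x ^ 2 := inv_eq_of_mul_eq_one_right hy.csq

omit hy in
theorem z_mem : z ∈ Subgroup.closure ({x, y, z} : Set G) := Subgroup.subset_closure (by simp)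

theorem center_cases {g : G} (hg : g ∈ K) (hc : ∀ k ∈ K, k * g = g * k) :
    g = 1 ∨ g = x ^ 2 := by
  by_contra hne
  push Not at hne
  have m1 : (⟨g, hg⟩ : K) ∈ Subgroup.center K :=
    Subgroup.mem_center_iff.2 fun k => Subtype.ext (hc k k.2)
  have m2 : (⟨x ^ 2, c_mem hy⟩ : K) ∈ Subgroup.center K :=
    Subgroup.mem_center_iff.2 fun k => Subtype.ext (hy.ccent k (hy.Kle k.2)).symm
  obtain ⟨u, -, huniq⟩ := (Nat.card_eq_two_iff' (1 : Subgroup.center K)).1 hy.cover.1
  have e1 := huniq ⟨_, m1⟩ (fun e => hne.1 (congrArg (fun w : Subgroup.center K => ((w : K) : G)) e))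
  have e2 := huniq ⟨_, m2⟩ (fun e => hy.cne (congrArg (fun w : Subgroup.center K => ((w : K) : G)) e))
  exact hne.2 (congrArg (fun w : Subgroup.center K => ((w : K) : G)) (e1.trans e2.symm))

/-- The centraliser of `K`. -/
theorem cent_K {g : G} (hg : ∀ k ∈ K, g * k = k * g) : g = 1 ∨ g = x ^ 2 := by
  obtain ⟨i, hi⟩ := hy.cent_cs g (hg s hy.sK) (hg _ (c_mem hy))
  have hsi : ∀ k ∈ K, k * s ^ i = s ^ i * k := by
    intro k hk
    rcases hi with rfl | rfl
    · exact (hg k hk).symm
    · have h := hg k hk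
      have hc := hy.ccent k (hy.Kle hk)
      rw [mul_assoc, ← mul_assoc k, ← hc, mul_assoc] at h
      exact (mul_left_cancel h).symm
  have h1 : s ^ i = 1 := by
    rcases center_cases hy (pow_mem hy.sK i) hsi with h | h
    · exact h
    · exfalso
      have e : (x ^ 2) ^ 11 = 1 := by rw [← h, ← pow_mul, mul_comm, pow_mul, hy.sord, one_pow]
      have e2 : (x ^ 2) ^ 11 = x ^ 2 := by
        rw [pow_succ, show 10 = 2 * 5 from rfl, pow_mul, sq (x ^ 2), hy.csq, one_pow, one_mul]
      exact hy.cne (e2.symm.trans e)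
  rcases hi with rfl | rfl
  · exact Or.inl h1
  · exact Or.inr (by rw [h1, mul_one])

/-- An involution of the centraliser of `s` and `x ^ 2` is `x ^ 2`. -/
theorem inv_eq_c {w : G} (h1 : w * w = 1) (hne : w ≠ 1) (hs : w * s = s * w)
    (hc : w * x ^ 2 = x ^ 2 * w) : w = x ^ 2 := by
  obtain ⟨i, hi⟩ := hy.cent_cs w hs hc
  have hcm : Commute (x ^ 2) (s ^ i) :=
    (show Commute (x ^ 2) s from hy.ccent s (hy.Kle hy.sK)).pow_right i
  have hsq2 : s ^ i * s ^ i = 1 := by
    rcases hi with e | e <;> rw [e] at h1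
    · exact h1
    · calc s ^ i * s ^ i = (x ^ 2 * x ^ 2) * (s ^ i * s ^ i) := by rw [hy.csq, one_mul]
        _ = x ^ 2 * s ^ i * (x ^ 2 * s ^ i) := hcm.mul_mul_mul_comm _ _
        _ = 1 := h1
  have hsi : s ^ i = 1 := by
    have h11 : (s ^ i) ^ 11 = 1 := by rw [← pow_mul, mul_comm, pow_mul, hy.sord, one_pow]
    rwa [pow_succ, show 10 = 2 * 5 from rfl, pow_mul, sq, hsq2, one_pow, one_mul] at h11
  rcases hi with e | e
  · exact absurd (e.trans hsi) hne
  · rw [e, hsi, mul_one]

/-- All involutions centralising `s` are conjugate to `x ^ 2`: two of them generate a dihedral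
subgroup of `C(s)`, and `x ^ 2` is the only involution there centralising itself. -/
theorem exists_conj_c {j : G} (hj : j * j = 1) (hjne : j ≠ 1) (hjs : j * s = s * j) :
    ∃ k : G, k * (x ^ 2) * k⁻¹ = j := by
  have := hy.fin
  have hcs : Commute (x ^ 2) s := hy.ccent s (hy.Kle hy.sK)
  have hcc : x ^ 2 * x ^ 2 = 1 := hy.csq
  generalize hcdef : x ^ 2 = c at hcs hcc ⊢
  have hci : c⁻¹ = c := inv_eq_of_mul_eq_one_right hcc
  obtain ⟨d, hd⟩ : ∃ d, d = j * c := ⟨_, rfl⟩
  have hcd : ∀ n : ℕ, c * d ^ n * c⁻¹ = (d ^ n)⁻¹ := by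
    intro n
    have e : c * d * c⁻¹ = d⁻¹ := by
      rw [hd, mul_inv_rev, hci, inv_eq_of_mul_eq_one_right hj, mul_assoc, mul_assoc, hcc, mul_one]
    have := map_pow (MulAut.conj c) d n
    rw [MulAut.conj_apply, MulAut.conj_apply, e, inv_pow] at this
    exact this
  have hn : d ^ orderOf d = 1 := pow_orderOf_eq_one d
  rcases Nat.even_or_odd (orderOf d) with ⟨l, hl⟩ | ⟨l, hl⟩
  · have hwne : d ^ l ≠ 1 := by
      intro e
      have h0 := orderOf_pos d
      have h := Nat.le_of_dvd (by omega) (orderOf_dvd_of_pow_eq_one e)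
      omega
    have hw : d ^ l * d ^ l = 1 := by rw [← pow_add, ← hl, hn]
    have hwi : (d ^ l)⁻¹ = d ^ l := inv_eq_of_mul_eq_one_right hw
    have hwc : d ^ l * c = c * d ^ l := by
      have e := hcd l
      rw [hwi, mul_inv_eq_iff_eq_mul] at e
      exact e.symm
    have hds : Commute d s := hd ▸ (show Commute j s from hjs).mul_left hcs
    have hwc' := inv_eq_c hy hw hwne (hds.pow_left l).eq (by rw [hcdef]; exact hwc)
    rw [hcdef] at hwc'
    have hdc : Commute d c := hwc' ▸ (Commute.refl d).pow_right l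
    have hjc : j * c = c * j := by
      have e := hdc.eq
      rw [hd, mul_assoc, hcc, mul_one] at e
      have e' := congrArg (· * c) e
      simp only [mul_assoc, hcc, mul_one] at e'
      exact e'
    have := inv_eq_c hy hj hjne hjs (by rw [hcdef]; exact hjc)
    rw [hcdef] at this
    exact ⟨1, by rw [this]; group⟩
  · refine ⟨c * d ^ l, ?_⟩
    have e1 : c * (d ^ l)⁻¹ = d ^ l * c := by
      have e := hcd l
      rw [mul_inv_eq_iff_eq_mul] at e
      have e' := congrArg (fun q => d ^ l * q * (d ^ l)⁻¹) e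
      simp only [mul_assoc, mul_inv_cancel_left] at e'
      rw [← e', mul_inv_cancel, mul_one]
    have e2 : d ^ l * d ^ l = d⁻¹ := by
      rw [eq_inv_iff_mul_eq_one, ← pow_add, ← pow_succ, show l + l + 1 = orderOf d by omega, hn]
    calc c * d ^ l * c * (c * d ^ l)⁻¹ = c * (d ^ l * (c * (d ^ l)⁻¹)) * c⁻¹ := by group
      _ = c * (d⁻¹ * c) * c⁻¹ := by rw [e1, ← mul_assoc (d ^ l), e2]
      _ = j := by
        rw [hd, mul_inv_rev, hci, inv_eq_of_mul_eq_one_right hj]
        simp only [mul_assoc, hcc, mul_one]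
        rw [← mul_assoc c c, hcc, one_mul]

/-- The projection of `K` onto `HS`. -/
theorem exists_proj : ∃ p : K →* ↥Spor.HS, Function.Surjective p ∧ p.ker = Subgroup.center K := by
  obtain ⟨e⟩ := hy.cover.2.1
  refine ⟨e.toMonoidHom.comp (QuotientGroup.mk' _), e.surjective.comp
    (QuotientGroup.mk'_surjective _), ?_⟩
  ext k
  simp

theorem perfect : commutator K = ⊤ := by
  obtain ⟨p, hp, hker⟩ := exists_proj hy
  have hsup : commutator K ⊔ Subgroup.center K = ⊤ := by
    rw [← hker, ← Subgroup.comap_map_eq]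
    have : (commutator K).map p = ⊤ := by
      rw [commutator_def, Subgroup.map_commutator, Subgroup.map_top_of_surjective p hp,
        ← commutator_def, commutator_HS]
    rw [this, Subgroup.comap_top]
  by_cases hd : Disjoint (Subgroup.center K) (commutator K)
  · exfalso
    refine hy.cover.2.2 (commutator K)
      (Subgroup.isComplement'_of_disjoint_and_mul_eq_univ hd ?_)
    rw [← Subgroup.normal_mul, sup_comm, hsup, Subgroup.coe_top]
  · rw [← hsup, eq_comm, sup_eq_left]
    rw [Subgroup.disjoint_def] at hd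
    push Not at hd
    obtain ⟨w, hw1, hw2, hw⟩ := hd
    obtain ⟨u, -, huniq⟩ := (Nat.card_eq_two_iff' (1 : Subgroup.center K)).1 hy.cover.1
    intro v hv
    by_cases hv1 : v = 1
    · rw [hv1]; exact one_mem _
    have e1 := huniq ⟨v, hv⟩ (fun e => hv1 (congrArg Subtype.val e))
    have e2 := huniq ⟨w, hw1⟩ (fun e => hw (congrArg Subtype.val e))
    rw [show v = w from congrArg Subtype.val (e1.trans e2.symm)]
    exact hw2

/-- A homomorphism of `K` that moves elements by central factors fixes `K`. -/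
theorem agree (f : K →* G) (hf : ∀ k : K, f k = k ∨ f k = k * x ^ 2) (k : K) : f k = k := by
  suffices h : commutator K ≤ f.eqLocus K.subtype by
    rw [perfect hy] at h
    exact h (Subgroup.mem_top k)
  rw [commutator_def, Subgroup.commutator_le]
  intro a _ b _
  show f ⁅a, b⁆ = ((⁅a, b⁆ : K) : G)
  rw [map_commutatorElement]
  have hca : Commute (x ^ 2) (a : G) := hy.ccent _ (hy.Kle a.2)
  have hcb : Commute (x ^ 2) (b : G) := hy.ccent _ (hy.Kle b.2)
  have hl : ∀ u v : G, Commute (x ^ 2) u → Commute (x ^ 2) v → ⁅u * x ^ 2, v⁆ = ⁅u, v⁆ := by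
    intro u v _ hv
    simp only [commutatorElement_def, mul_inv_rev, mul_assoc]
    rw [← mul_assoc (x ^ 2) v, hv.eq, mul_assoc v, mul_inv_cancel_left]
  have hr : ∀ u v : G, Commute (x ^ 2) u → Commute (x ^ 2) v → ⁅u, v * x ^ 2⁆ = ⁅u, v⁆ := by
    intro u v hu hv
    rw [← commutatorElement_inv, hl v u hv hu, commutatorElement_inv]
  have hc2 : Commute (x ^ 2) ((b : G) * x ^ 2) := hcb.mul_right (Commute.refl _)
  rcases hf a with ea | ea <;> rcases hf b with eb | eb <;> rw [ea, eb]
  · rfl
  · rw [hr _ _ hca hcb]; rfl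
  · rw [hl _ _ hca hcb]; rfl
  · rw [hl _ _ hca hc2, hr _ _ hca hcb]; rfl

theorem conj_mem {h : G} (hh : h ∈ Subgroup.closure ({x, y, z} : Set G)) :
    ∀ k ∈ K, h * k * h⁻¹ ∈ K := by
  induction hh using Subgroup.closure_induction'' with
  | one => intro k hk; simpa
  | mem w hw =>
      intro k hk
      simp only [Set.mem_insert_iff, Set.mem_singleton_iff] at hw
      rcases hw with rfl | rfl | rfl
      · exact mul_mem (mul_mem hy.xK hk) (inv_mem hy.xK)
      · exact mul_mem (mul_mem hy.yK hk) (inv_mem hy.yK)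
      · exact hy.znorm k hk
  | inv_mem w hw =>
      intro k hk
      simp only [Set.mem_insert_iff, Set.mem_singleton_iff] at hw
      rcases hw with rfl | rfl | rfl
      · exact mul_mem (mul_mem (inv_mem hy.xK) hk) (inv_mem (inv_mem hy.xK))
      · exact mul_mem (mul_mem (inv_mem hy.yK) hk) (inv_mem (inv_mem hy.yK))
      · rw [inv_eq_of_mul_eq_one_right hy.zsq]
        exact hy.znorm k hk
  | mul a b _ _ ha hb =>
      intro k hk
      have := ha _ (hb k hk)
      simpa [mul_assoc] using this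

/-- Every element of `H` is in `K` or in `z K`. -/
theorem two_cosets {h : G} (hh : h ∈ Subgroup.closure ({x, y, z} : Set G)) :
    h ∈ K ∨ z * h ∈ K := by
  have hz : ∀ k ∈ K, z * k * z ∈ K := by
    intro k hk
    have := hy.znorm k hk
    rwa [inv_eq_of_mul_eq_one_right hy.zsq] at this
  induction hh using Subgroup.closure_induction with
  | mem w hw =>
      simp only [Set.mem_insert_iff, Set.mem_singleton_iff] at hw
      rcases hw with rfl | rfl | rfl
      · exact Or.inl hy.xK
      · exact Or.inl hy.yK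
      · exact Or.inr (by rw [hy.zsq]; exact one_mem _)
  | one => exact Or.inl (one_mem _)
  | mul a b _ _ ha hb =>
      rcases ha with ha | ha <;> rcases hb with hb | hb
      · exact Or.inl (mul_mem ha hb)
      · right
        have := mul_mem (hz a ha) hb
        rwa [mul_assoc (z * a), ← mul_assoc z z, hy.zsq, one_mul, mul_assoc] at this
      · right
        rw [← mul_assoc]; exact mul_mem ha hb
      · left
        have := mul_mem (hz _ ha) hb
        simp only [← mul_assoc] at this
        rw [hy.zsq, one_mul, mul_assoc a, hy.zsq, mul_one] at this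
        exact this
  | inv a _ ha =>
      rcases ha with ha | ha
      · exact Or.inl (inv_mem ha)
      · right
        have := inv_mem (hz _ ha)
        rwa [← mul_assoc z z, hy.zsq, one_mul, mul_inv_rev, inv_eq_of_mul_eq_one_right hy.zsq]
          at this

theorem card_K : Nat.card K = 88704000 := by
  obtain ⟨e⟩ := hy.cover.2.1
  rw [Subgroup.card_eq_card_quotient_mul_card_subgroup (Subgroup.center K), hy.cover.1,
    Nat.card_congr e.toEquiv, card_HS]

theorem card_H : Nat.card (Subgroup.closure ({x, y, z} : Set G)) = 177408000 := by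
  have hidx : (K.subgroupOf (Subgroup.closure ({x, y, z} : Set G))).index = 2 := by
    rw [Subgroup.index_eq_two_iff]
    refine ⟨⟨z, z_mem⟩, fun b => ?_⟩
    simp only [Subgroup.mem_subgroupOf, Subgroup.coe_mul]
    have hbz : (b : G) ∈ K ∨ (b : G) * z ∈ K := by
      rcases two_cosets hy b.2 with h | h
      · exact Or.inl h
      · right
        have := hy.znorm _ h
        rwa [← mul_assoc, hy.zsq, one_mul, inv_eq_of_mul_eq_one_right hy.zsq] at this
    by_cases hb : (b : G) ∈ K
    · exact Or.inr ⟨hb, fun h => hy.zK (by simpa using mul_mem (inv_mem hb) h)⟩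
    · exact Or.inl ⟨hbz.resolve_left hb, hb⟩
  rw [← (K.subgroupOf _).card_mul_index, hidx,
    Nat.card_congr (Subgroup.subgroupOfEquivOfLe hy.Kle).toEquiv, card_K hy]

end Local

/-- An automorphism of `K` modulo the centre. -/
noncomputable def modCenter (K : Subgroup G) :
    MulAut K →* MulAut (K ⧸ Subgroup.center K) where
  toFun σ := QuotientGroup.congr _ _ σ (Subgroup.characteristic_iff_map_eq.1 inferInstance σ)
  map_one' := by
    ext q
    obtain ⟨k, rfl⟩ := QuotientGroup.mk_surjective q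
    rfl
  map_mul' := by
    intro a b
    ext q
    obtain ⟨k, rfl⟩ := QuotientGroup.mk_surjective q
    rfl

/-- Conjugation by `H` on `K`. -/
noncomputable def conjHom (hy : Hyp x y z t K s) :
    Subgroup.closure ({x, y, z} : Set G) →* MulAut K where
  toFun h :=
    { toFun := fun k => ⟨h.1 * k.1 * h.1⁻¹, conj_mem hy h.2 k k.2⟩
      invFun := fun k => ⟨h.1⁻¹ * k.1 * h.1, by simpa using conj_mem hy (inv_mem h.2) k k.2⟩
      left_inv := fun k => Subtype.ext (by simp [mul_assoc])
      right_inv := fun k => Subtype.ext (by simp [mul_assoc])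
      map_mul' := fun a b => Subtype.ext (by simp [mul_assoc]) }
  map_one' := by ext k; simp
  map_mul' := by intro a b; ext k; simp [mul_assoc]

/-- Every automorphism of the double cover is induced by `H`. -/
theorem exists_conj (hy : Hyp x y z t K s) (σ : MulAut K) :
    ∃ h ∈ Subgroup.closure ({x, y, z} : Set G), ∀ k : K, h * (k : G) * h⁻¹ = σ k := by
  have := hy.fin
  set φ := (modCenter K).comp (conjHom hy) with hφ
  have hker : ∀ h : Subgroup.closure ({x, y, z} : Set G),
      h ∈ φ.ker → (h : G) = 1 ∨ (h : G) = x ^ 2 := by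
    intro h hh
    apply cent_K hy
    intro k hk
    have hmod : ∀ k : K, ((conjHom hy h k : K) : G) = k ∨
        ((conjHom hy h k : K) : G) = k * x ^ 2 := by
      intro k
      have e : ((conjHom hy h k : K) : K ⧸ Subgroup.center K) = (k : K ⧸ Subgroup.center K) :=
        DFunLike.congr_fun (MonoidHom.mem_ker.1 hh) (k : K ⧸ Subgroup.center K)
      have e2 : (conjHom hy h k)⁻¹ * k ∈ Subgroup.center K := QuotientGroup.eq.1 e
      have e4 : k⁻¹ * conjHom hy h k ∈ Subgroup.center K := by
        simpa using inv_mem e2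
      rcases center_cases hy (k⁻¹ * conjHom hy h k : K).2 (fun q hq =>
        congrArg Subtype.val (Subgroup.mem_center_iff.1 e4 ⟨q, hq⟩)) with e3 | e3
      · left
        simp only [Subgroup.coe_mul, Subgroup.coe_inv, inv_mul_eq_one] at e3
        exact e3.symm
      · right
        simp only [Subgroup.coe_mul, Subgroup.coe_inv, inv_mul_eq_iff_eq_mul] at e3
        exact e3
    have := agree hy (K.subtype.comp (conjHom hy h).toMonoidHom) hmod ⟨k, hk⟩
    exact mul_inv_eq_iff_eq_mul.1 this
  have hk2 : Nat.card φ.ker ≤ 2 := by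
    classical
    rw [← SetLike.coe_sort_coe, Nat.card_coe_set_eq]
    refine le_trans (Set.ncard_le_ncard_of_injOn (t := ({1, x ^ 2} : Set G)) (fun h => (h : G))
      (fun h hh => by rcases hker h hh with e | e <;> simp [e])
      (fun a _ b _ e => Subtype.ext e) (Set.toFinite _)) ?_
    exact le_trans (Set.ncard_insert_le _ _) (by simp)
  have hprod := φ.ker.card_mul_index
  rw [Subgroup.index_ker, card_H hy] at hprod
  have hcard : Nat.card (MulAut (K ⧸ Subgroup.center K)) = 88704000 := by
    obtain ⟨e⟩ := hy.cover.2.1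
    rw [Nat.card_congr (MulAut.congr e).toEquiv, card_mulAut_HS]
  have : Finite (MulAut (K ⧸ Subgroup.center K)) :=
    (Nat.card_pos_iff.1 (hcard ▸ by norm_num)).2
  have hle : Nat.card φ.range ≤ 88704000 := hcard ▸ Subgroup.card_le_card_group _
  have hge : 88704000 ≤ Nat.card φ.range := by
    have := Nat.mul_le_mul_right (Nat.card φ.range) hk2
    omega
  have htop : φ.range = ⊤ := Subgroup.eq_top_of_card_eq _ (by omega)
  obtain ⟨h, hh⟩ := MonoidHom.mem_range.1 (htop ▸ Subgroup.mem_top (modCenter K σ) :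
    modCenter K σ ∈ φ.range)
  refine ⟨h, h.2, ?_⟩
  have key : ∀ k : K, ((conjHom hy h (σ⁻¹ k) : K) : G) = k ∨
      ((conjHom hy h (σ⁻¹ k) : K) : G) = k * x ^ 2 := by
    intro k
    have e : ((conjHom hy h (σ⁻¹ k) : K) : K ⧸ Subgroup.center K) =
        ((σ (σ⁻¹ k) : K) : K ⧸ Subgroup.center K) :=
      DFunLike.congr_fun hh ((σ⁻¹ k : K) : K ⧸ Subgroup.center K)
    rw [MulAut.apply_inv_self] at e
    have e4 := QuotientGroup.eq.1 e.symm
    rcases center_cases hy (k⁻¹ * conjHom hy h (σ⁻¹ k) : K).2 (fun q hq =>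
      congrArg Subtype.val (Subgroup.mem_center_iff.1 e4 ⟨q, hq⟩)) with e3 | e3
    · left
      simp only [Subgroup.coe_mul, Subgroup.coe_inv, inv_mul_eq_one] at e3
      exact e3.symm
    · right
      simp only [Subgroup.coe_mul, Subgroup.coe_inv, inv_mul_eq_iff_eq_mul] at e3
      exact e3
  intro k
  have := agree hy (K.subtype.comp ((conjHom hy h).toMonoidHom.comp (σ⁻¹).toMonoidHom)) key (σ k)
  simpa [conjHom] using this

end Cfsg.Agent.H87.HNOut
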