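import Cfsg.Agent.H87.HNOut.Main

/-!
`Out = 2` for a group with the properties in `Hyp`.
-/

set_option autoImplicit false

namespace Cfsg.Agent.H87.HNOut

open Cfsg
open scoped commutatorElement Pointwise

variable {G : Type} [Group G] {x y z t : G} {K : Subgroup G} {s : G}

theorem conj_c_t (hy : Hyp x y z t K s) : x ^ 2 * t * (x ^ 2)⁻¹ = t ^ 4 := by
  have h : x⁻¹ * (x⁻¹ * t * x) * x = t ^ 4 := by
    have e : x⁻¹ * t ^ 3 * x = (x⁻¹ * t * x) ^ 3 := by
      simpa using map_pow (MulAut.conj x⁻¹) t 3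
    rw [hy.txc, e, hy.txc, ← pow_mul, pow_eq_pow_mod _ hy.tord]
  rw [← h]
  calc x ^ 2 * t * (x ^ 2)⁻¹ = (x ^ 2)⁻¹ * t * x ^ 2 := by rw [c_inv hy]
    _ = _ := by rw [sq]; group

/-- The twist as an automorphism. -/
theorem exists_beta (hy : Hyp x y z t K s) :
    ∃ β : MulAut G, β x = x ∧ β y = y ∧ β z = z * x ^ 2 ∧ β t = t ^ 2 := by
  obtain ⟨f, hx, hy', hz, ht⟩ := hy.twist
  have hff : ∀ w, f (f w) = MulAut.conj (x ^ 2) w := by
    intro w
    refine DFunLike.congr_fun (MonoidHom.eq_of_eqOn_dense hy.gen (f := f.comp f)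
      (g := (MulAut.conj (x ^ 2)).toMonoidHom) ?_) w
    intro v hv
    simp only [Set.mem_insert_iff, Set.mem_singleton_iff] at hv
    show f (f v) = x ^ 2 * v * (x ^ 2)⁻¹
    rcases hv with rfl | rfl | rfl | rfl
    · rw [hx, hx]; group
    · rw [hy', hy', hy.ccent v (Subgroup.subset_closure (by simp)), mul_inv_cancel_right]
    · rw [hz, map_mul, hz, map_pow, hx, hy.ccent v (Subgroup.subset_closure (by simp)),
        mul_inv_cancel_right, mul_assoc, hy.csq, mul_one]
    · rw [ht, map_pow, ht, ← pow_mul, conj_c_t hy]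
  have hb : Function.Bijective f := by
    refine ⟨fun a b e => (MulAut.conj (x ^ 2)).injective ?_, fun b => ⟨f ((MulAut.conj (x ^ 2))⁻¹ b), ?_⟩⟩
    · rw [← hff, ← hff, e]
    · rw [hff, MulAut.apply_inv_self]
  exact ⟨MulEquiv.ofBijective f hb, hx, hy', hz, ht⟩

/-- The twist is outer. -/
theorem beta_not_inner (hy : Hyp x y z t K s) {β : MulAut G} (hx : β x = x) (hy' : β y = y)
    (hz : β z = z * x ^ 2) : β ∉ Inn G := by
  rintro ⟨g, hg⟩
  have hH : ∀ h ∈ Subgroup.closure ({x, y, z} : Set G), β h = h ∨ β h = h * x ^ 2 := by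
    intro h hh
    induction hh using Subgroup.closure_induction with
    | mem w hw =>
        simp only [Set.mem_insert_iff, Set.mem_singleton_iff] at hw
        rcases hw with rfl | rfl | rfl
        · exact Or.inl hx
        · exact Or.inl hy'
        · exact Or.inr hz
    | one => exact Or.inl (map_one β)
    | mul a b _ hb' ha hb =>
        have hc := hy.ccent b hb'
        rw [map_mul]
        rcases ha with ea | ea <;> rcases hb with eb | eb <;> rw [ea, eb]
        · exact Or.inl rfl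
        · exact Or.inr (mul_assoc a b _).symm
        · exact Or.inr (by rw [mul_assoc, hc, ← mul_assoc])
        · exact Or.inl (by rw [mul_assoc, ← mul_assoc (x ^ 2) b, hc, mul_assoc b, hy.csq, mul_one])
    | inv a ha' ha =>
        rw [map_inv]
        rcases ha with ea | ea
        · exact Or.inl (by rw [ea])
        · exact Or.inr (by rw [ea, mul_inv_rev, c_inv hy, hy.ccent _ (inv_mem ha')])
  have hK := agree hy (β.toMonoidHom.comp K.subtype) (fun k => hH k (hy.Kle k.2))
  have hgK : ∀ k ∈ K, g * k = k * g := by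
    intro k hk
    have e : β k = k := hK ⟨k, hk⟩
    rw [← hg, MulAut.conj_apply] at e
    exact mul_inv_eq_iff_eq_mul.1 e
  rw [← hg, MulAut.conj_apply] at hz
  apply hy.cne
  rcases cent_K hy hgK with rfl | rfl
  · simpa using hz
  · rw [hy.ccent z (Subgroup.subset_closure (by simp)), mul_inv_cancel_right] at hz
    simpa using hz

/-- An automorphism fixing `K` pointwise. -/
theorem classify (hy : Hyp x y z t K s) {β : MulAut G} (hx : β x = x) (hy' : β y = y)
    (hz : β z = z * x ^ 2) (ht : β t = t ^ 2) {α : MulAut G}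
    (hK : ∀ k ∈ K, α k = k) :
    α ∈ Inn G ∨ α * β⁻¹ ∈ Inn G := by
  have hzK : ∀ k ∈ K, (z⁻¹ * α z) * k = k * (z⁻¹ * α z) := by
    intro k hk
    have e := hK _ (hy.znorm k hk)
    rw [map_mul, map_mul, map_inv, hK k hk] at e
    calc z⁻¹ * α z * k = z⁻¹ * (α z * k * (α z)⁻¹) * α z := by group
      _ = k * (z⁻¹ * α z) := by rw [e]; group
  have hz' : α z = z ∨ α z = z * x ^ 2 := by
    rcases cent_K hy hzK with e | e
    · exact Or.inl (inv_mul_eq_one.1 e).symm
    · exact Or.inr (inv_mul_eq_iff_eq_mul.1 e)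
  obtain ⟨i, hi⟩ := hy.cent_U (α t) (by rw [← map_pow, hy.tord, map_one]) fun u hu hut => by
    have := congrArg α hut.symm
    rwa [map_mul, map_mul, hK u hu] at this
  rw [pow_eq_pow_mod i hy.tord] at hi
  have h3 : (α z * α t) ^ 3 = 1 := by rw [← map_mul, ← map_pow, hy.zt3, map_one]
  have hcx : MulAut.conj (x ^ 2) x = x := by rw [MulAut.conj_apply]; group
  have hcy : MulAut.conj (x ^ 2) y = y := by
    rw [MulAut.conj_apply, hy.ccent y (Subgroup.subset_closure (by simp)), mul_inv_cancel_right]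
  have hcz : MulAut.conj (x ^ 2) z = z := by
    rw [MulAut.conj_apply, hy.ccent z (Subgroup.subset_closure (by simp)), mul_inv_cancel_right]
  have hct : MulAut.conj (x ^ 2) t = t ^ 4 := conj_c_t hy
  obtain ⟨C, hC⟩ : ∃ C, C = MulAut.conj (x ^ 2) := ⟨_, rfl⟩
  have hCmem : C ∈ Inn G := ⟨_, hC.symm⟩
  rw [← hC] at hcx hcy hcz hct
  have hαx := hK x hy.xK
  have hαy := hK y hy.yK
  have hlt : i % 5 < 5 := Nat.mod_lt _ (by norm_num)
  interval_cases hm : i % 5
  · exact absurd (α.injective (by rw [map_one, hi, pow_zero])) hy.tne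
  · rw [pow_one] at hi
    rcases hz' with e | e
    · left
      rw [show α = 1 from mulAut_ext hy hαx hαy e hi]
      exact one_mem _
    · rw [e, hi] at h3
      exact absurd h3 hy.ne2
  · rcases hz' with e | e
    · rw [e, hi] at h3
      exact absurd h3 hy.ne1
    · right
      rw [show α = β from mulAut_ext hy (hαx.trans hx.symm) (hαy.trans hy'.symm)
        (e.trans hz.symm) (hi.trans ht.symm), mul_inv_cancel]
      exact one_mem _
  · rcases hz' with e | e
    · exfalso
      rw [e, hi] at h3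
      apply hy.ne1
      apply C.injective
      rw [map_pow, map_mul, map_pow, hcz, hct, ← pow_mul, pow_eq_pow_mod _ hy.tord, map_one, h3]
    · right
      have : α = C * β := by
        refine mulAut_ext hy ?_ ?_ ?_ ?_ <;> rw [MulAut.mul_apply]
        · rw [hx, hcx, hαx]
        · rw [hy', hcy, hαy]
        · rw [hz, map_mul, hcz, map_pow, hcx, e]
        · rw [ht, map_pow, hct, hi, ← pow_mul, pow_eq_pow_mod (4 * 2) hy.tord]
      rw [this, mul_inv_cancel_right]
      exact hCmem
  · rcases hz' with e | e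
    · left
      rw [show α = C from
        mulAut_ext hy (hαx.trans hcx.symm) (hαy.trans hcy.symm) (e.trans hcz.symm) (hi.trans hct.symm)]
      exact hCmem
    · exfalso
      rw [e, hi] at h3
      apply hy.ne2
      apply C.injective
      rw [map_pow, map_mul, map_mul, hcz, hct, map_pow, hcx, map_one, h3]

/-- The main bound. -/
theorem inner_or (hy : Hyp x y z t K s) {β : MulAut G} (hx : β x = x) (hy' : β y = y)
    (hz : β z = z * x ^ 2) (ht : β t = t ^ 2) (α : MulAut G) :
    α ∈ Inn G ∨ α * β⁻¹ ∈ Inn G := by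
  have := hy.fin
  have := Fact.mk (show Nat.Prime 11 by norm_num)
  have key : ∀ g, (MulAut.conj g * α ∈ Inn G ∨ MulAut.conj g * α * β⁻¹ ∈ Inn G) →
      α ∈ Inn G ∨ α * β⁻¹ ∈ Inn G := by
    intro g h
    have hg : MulAut.conj g ∈ Inn G := ⟨g, rfl⟩
    rcases h with h | h
    · exact Or.inl ((Subgroup.mul_mem_cancel_left _ hg).1 h)
    · exact Or.inr ((Subgroup.mul_mem_cancel_left _ hg).1 (by rwa [← mul_assoc]))
  have hfac : (Nat.card G).factorization 11 = 1 := by
    rw [hy.card, show 273030912000000 = 11 * 24820992000000 from rfl,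
      Nat.factorization_mul (by norm_num) (by norm_num), Finsupp.add_apply,
      Nat.Prime.factorization_self (by norm_num), Nat.factorization_eq_zero_of_not_dvd (by norm_num)]
  have hcardz : ∀ w : G, w ^ 11 = 1 → w ≠ 1 → Nat.card (Subgroup.zpowers w) = 11 := fun w h1 h2 =>
    by rw [Nat.card_zpowers, orderOf_eq_prime h1 h2]
  have hcs := hcardz s hy.sord hy.sne
  have hs1 : α s ≠ 1 := by simpa using hy.sne
  have hca := hcardz (α s) (by rw [← map_pow, hy.sord, map_one]) hs1
  let P : Sylow 11 G := Sylow.ofCard (Subgroup.zpowers s) (by rw [hcs, hfac, pow_one])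
  let P' : Sylow 11 G := Sylow.ofCard (Subgroup.zpowers (α s)) (by rw [hca, hfac, pow_one])
  obtain ⟨g, hg⟩ := MulAction.exists_smul_eq G P' P
  apply key g
  set α₁ := MulAut.conj g * α with hα₁
  have hα₁s : α₁ s ∈ Subgroup.zpowers s := by
    have h1 : MulAut.conj g • α s ∈ MulAut.conj g • Subgroup.zpowers (α s) :=
      Subgroup.smul_mem_pointwise_smul _ _ _ (Subgroup.mem_zpowers _)
    have h2 : MulAut.conj g • Subgroup.zpowers (α s) = Subgroup.zpowers s :=
      congrArg Sylow.toSubgroup hg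
    rwa [h2] at h1
  have hgen : Subgroup.zpowers (α₁ s) = Subgroup.zpowers s :=
    Subgroup.eq_of_le_of_card_ge (Subgroup.zpowers_le.2 hα₁s) (by
      rw [hcs, hcardz _ (by rw [← map_pow, hy.sord, map_one]) (by simpa using hy.sne)])
  obtain ⟨k, hk⟩ : ∃ k, k * x ^ 2 * k⁻¹ = α₁ (x ^ 2) := by
    have h1 : Commute (α₁ (x ^ 2)) (α₁ s) :=
      (show Commute (x ^ 2) s from hy.ccent s (hy.Kle hy.sK)).map α₁
    obtain ⟨j, hj⟩ := Subgroup.mem_zpowers_iff.1 (hgen ▸ Subgroup.mem_zpowers s :
      s ∈ Subgroup.zpowers (α₁ s))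
    refine exists_conj_c hy (by rw [← map_mul, hy.csq, map_one])
      (fun e => hy.cne (α₁.injective (e.trans (map_one α₁).symm))) ?_
    exact hj ▸ (h1.zpow_right j).eq
  have key₂ : (MulAut.conj k⁻¹ * α₁ ∈ Inn G ∨ MulAut.conj k⁻¹ * α₁ * β⁻¹ ∈ Inn G) →
      α₁ ∈ Inn G ∨ α₁ * β⁻¹ ∈ Inn G := by
    have hin : MulAut.conj k⁻¹ ∈ Inn G := ⟨_, rfl⟩
    rintro (e | e)
    · exact Or.inl ((Subgroup.mul_mem_cancel_left _ hin).1 e)
    · exact Or.inr ((Subgroup.mul_mem_cancel_left _ hin).1 (by rwa [← mul_assoc]))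
  apply key₂
  have hc : (MulAut.conj k⁻¹ * α₁) (x ^ 2) = x ^ 2 := by
    rw [MulAut.mul_apply, MulAut.conj_apply, ← hk]
    group
  clear key key₂ hgen hα₁s hk
  clear_value α₁
  generalize MulAut.conj k⁻¹ * α₁ = α₁ at hc ⊢
  have hH1 : ∀ h ∈ Subgroup.closure ({x, y, z} : Set G),
      α₁ h ∈ Subgroup.closure ({x, y, z} : Set G) := by
    intro h hh
    apply hy.cent_c
    rw [← hc, ← map_mul, ← map_mul, hy.ccent h hh]
  have hmapH : (Subgroup.closure ({x, y, z} : Set G)).map α₁.toMonoidHom =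
      Subgroup.closure ({x, y, z} : Set G) :=
    Subgroup.eq_of_le_of_card_ge (by rintro _ ⟨h, hh, rfl⟩; exact hH1 h hh) (le_of_eq
      (Nat.card_congr ((Subgroup.closure ({x, y, z} : Set G)).equivMapOfInjective _
        α₁.injective).toEquiv))
  have hKcomm : K = ⁅Subgroup.closure ({x, y, z} : Set G), Subgroup.closure ({x, y, z} : Set G)⁆ := by
    apply le_antisymm
    · intro k hk
      have h : ((⟨k, hk⟩ : K) : G) ∈ (commutator K).map K.subtype :=
        Subgroup.mem_map_of_mem K.subtype ((perfect hy).symm ▸ Subgroup.mem_top (⟨k, hk⟩ : K))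
      rw [commutator_def, Subgroup.map_commutator, ← MonoidHom.range_eq_map,
        Subgroup.range_subtype] at h
      exact Subgroup.commutator_mono hy.Kle hy.Kle h
    · rw [Subgroup.commutator_le]
      intro a ha b hb
      let Ks := K.subgroupOf (Subgroup.closure ({x, y, z} : Set G))
      have : Ks.Normal := ⟨fun n hn w => conj_mem hy w.2 n hn⟩
      have hq : Nat.card (↥(Subgroup.closure ({x, y, z} : Set G)) ⧸ Ks) = 2 := by
        have h1 := card_H hy
        rw [Subgroup.card_eq_card_quotient_mul_card_subgroup Ks,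
          Nat.card_congr (Subgroup.subgroupOfEquivOfLe hy.Kle).toEquiv, card_K hy] at h1
        omega
      have hcyc : IsCyclic (↥(Subgroup.closure ({x, y, z} : Set G)) ⧸ Ks) := by
        have := Fact.mk Nat.prime_two
        exact isCyclic_of_prime_card (p := 2) hq
      let _ := @IsCyclic.commGroup _ _ hcyc
      have : (⁅(⟨a, ha⟩ : Subgroup.closure ({x, y, z} : Set G)), ⟨b, hb⟩⁆) ∈ Ks := by
        rw [← QuotientGroup.eq_one_iff, ← QuotientGroup.mk'_apply, map_commutatorElement,
          commutatorElement_eq_one_iff_mul_comm]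
        exact mul_comm _ _
      exact this
  have hmapK : K.map α₁.toMonoidHom = K := by
    conv_lhs => rw [hKcomm, Subgroup.map_commutator, hmapH]
    exact hKcomm.symm
  let σ : MulAut K := (K.equivMapOfInjective _ α₁.injective).trans (MulEquiv.subgroupCongr hmapK)
  obtain ⟨h, -, hconj⟩ := exists_conj hy σ
  have hmem : MulAut.conj h⁻¹ * α₁ ∈ Inn G ∨ MulAut.conj h⁻¹ * α₁ * β⁻¹ ∈ Inn G := by
    refine classify hy hx hy' hz ht fun k hk => ?_
    have e : h * k * h⁻¹ = α₁ k := hconj ⟨k, hk⟩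
    rw [MulAut.mul_apply, MulAut.conj_apply, ← e]
    group
  have hin : MulAut.conj h⁻¹ ∈ Inn G := ⟨_, rfl⟩
  rcases hmem with e | e
  · exact Or.inl ((Subgroup.mul_mem_cancel_left _ hin).1 e)
  · exact Or.inr ((Subgroup.mul_mem_cancel_left _ hin).1 (by rwa [← mul_assoc]))

/-- `Out = 2`. -/
theorem card_out (hy : Hyp x y z t K s) : Nat.card (Cfsg.Out G) = 2 := by
  obtain ⟨β, hx, hy', hz, ht⟩ := exists_beta hy
  have hn := beta_not_inner hy hx hy' hz
  show (Inn G).index = 2
  rw [Subgroup.index_eq_two_iff]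
  refine ⟨β⁻¹, fun b => ?_⟩
  rcases inner_or hy hx hy' hz ht b with h | h
  · exact Or.inr ⟨h, fun h' => hn (by simpa using mul_mem (inv_mem h') h)⟩
  · exact Or.inl ⟨h, fun h' => hn (by simpa using mul_mem (inv_mem h) h')⟩

end Cfsg.Agent.H87.HNOut
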