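import Cfsg.Agent.H16.HN.Check

/-!
Representatives of the fourteen double cosets `H r <x,y,t>` of `HN` (letters 0..7 = x X y Y z Z t T) and the
tests run on their values in the 133-dimensional representation.
-/

set_option autoImplicit false

namespace Cfsg.Agent.H87.HNOut

open Cfsg.Agent.H16.HN

/-- The representatives. -/
def reps : List (List ℕ) := [
  [],
  [6, 4],
  [6, 4, 2, 4],
  [6, 4, 2, 7, 4],
  [6, 4, 2, 4, 2, 4],
  [6, 0, 4, 2, 6, 4],
  [6, 0, 4, 2, 4, 2, 6, 4],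
  [6, 4, 2, 4, 2, 6, 4],
  [6, 0, 4, 2, 4, 6, 4, 2, 4],
  [6, 4, 2, 7, 4, 2, 6, 4],
  [6, 4, 2, 0, 6, 4, 3, 7, 4],
  [6, 4, 2, 7, 4, 2, 6, 4, 2, 4],
  [6, 0, 4, 2, 7, 4, 2, 6, 0, 4, 2, 6, 4],
  [6, 4, 2, 0, 4, 6, 4, 3, 7, 4, 3, 6, 4, 3, 4]]

/-- The representative of a node. -/
def repW (j : ℕ) : List ℕ := reps.getD j []

/-- The inverse letter. -/
def invL (l : ℕ) : ℕ := if l % 2 = 0 then l + 1 else l - 1

/-- The inverse word. -/
def invW (w : List ℕ) : List ℕ := (w.map invL).reverse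

/-- `r⁻¹ c r c`. -/
def wordA (j : ℕ) : List ℕ := invW (repW j) ++ [0, 0] ++ repW j ++ [0, 0]

/-- `r y r⁻¹ c`. -/
def wordB (j : ℕ) : List ℕ := repW j ++ [2] ++ invW (repW j) ++ [0, 0]

/-- `c r y r⁻¹`. -/
def wordB' (j : ℕ) : List ℕ := [0, 0] ++ repW j ++ [2] ++ invW (repW j)

/-- `r⁻¹ c r c` is not a power of `t`. -/
noncomputable def okA (j : ℕ) : Bool :=
  !((List.range 5).any fun k => Nat.beq (evM (wordA j)) (evM (List.replicate k 6)))

/-- `r y r⁻¹` does not commute with `c`. -/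
noncomputable def okB (j : ℕ) : Bool := !(Nat.beq (evM (wordB j)) (evM (wordB' j)))

end Cfsg.Agent.H87.HNOut
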